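import Groth.Agent.RGBlowLib.Target
import Groth.Agent.S1680

/-!
# A common target of finitely many compactifications
-/

set_option autoImplicit false
set_option linter.style.haveILetI false
set_option backward.isDefEq.respectTransparency false
set_option maxHeartbeats 1000000

universe u

open CategoryTheory CategoryTheory.Limits AlgebraicGeometry

noncomputable section

namespace Groth.Agent.RGModLib

variable {S U : Scheme.{u}}

/-- The lift to a blow-up of an open immersion off the centre is an open immersion. -/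
theorem isOpenImmersion_lift_blowUp {Y Y' : Scheme.{u}} (I : Y.IdealSheafData) {β : Y' ⟶ Y}
    (hβ : BlowUp.IsBlowUp β I) (j : U ⟶ Y) [IsOpenImmersion j] (hj : ∀ x, j x ∉ I.support)
    (j' : U ⟶ Y') (hj' : j' ≫ β = j) : IsOpenImmersion j' := by
  let O : Y.Opens := I.support.compl
  haveI : IsIso (β ∣_ O) := BlowCompLib.isIso_restrict I β hβ
  have hr : Set.range j' ⊆ Set.range (β ⁻¹ᵁ O).ι := by
    rintro _ ⟨x, rfl⟩
    rw [Scheme.Opens.range_ι]
    show β (j' x) ∈ O
    rw [← Scheme.Hom.comp_apply, hj']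
    exact hj x
  have hlift : IsOpenImmersion.lift (β ⁻¹ᵁ O).ι j' hr ≫ (β ∣_ O) ≫ O.ι = j := by
    rw [morphismRestrict_ι, IsOpenImmersion.lift_fac_assoc, hj']
  haveI : IsOpenImmersion (IsOpenImmersion.lift (β ⁻¹ᵁ O).ι j' hr ≫ ((β ∣_ O) ≫ O.ι)) := by
    rw [hlift]; infer_instance
  haveI : IsOpenImmersion (IsOpenImmersion.lift (β ⁻¹ᵁ O).ι j' hr) := IsOpenImmersion.of_comp _ ((β ∣_ O) ≫ O.ι)
  rw [← IsOpenImmersion.lift_fac (β ⁻¹ᵁ O).ι j' hr]
  infer_instance

/-- Points over the complement of the centre have at most one preimage. -/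
theorem eq_of_apply_eq_of_notMem_support {Y Y' : Scheme.{u}} (I : Y.IdealSheafData) {β : Y' ⟶ Y}
    (hβ : BlowUp.IsBlowUp β I) {x y : Y'} (h : β x = β y) (hy : β y ∉ I.support) : x = y := by
  haveI : IsIso (β ∣_ (I.support.compl : Y.Opens)) := BlowCompLib.isIso_restrict I β hβ
  have hx : β x ∉ I.support := h ▸ hy
  exact congrArg Subtype.val ((β ∣_ (I.support.compl : Y.Opens)).isOpenEmbedding.injective
    (a₁ := ⟨x, hx⟩) (a₂ := ⟨y, hy⟩) (Subtype.ext (by rw [morphismRestrict_base_coe, morphismRestrict_base_coe]; exact h)))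

/-- Finitely many compactifications of `U` map to a common one after admissible blow-ups. -/
theorem exists_nfold_target [CompactSpace S] [QuasiSeparatedSpace S]
    (gU : U ⟶ S) [IsSeparated gU] [QuasiCompact gU] [LocallyOfFiniteType gU] :
    ∀ (n : ℕ) (X : Fin n → Scheme.{u}) (g : ∀ i, X i ⟶ S),
      (∀ i, IsSeparated (g i)) → (∀ i, QuasiCompact (g i)) → (∀ i, LocallyOfFiniteType (g i)) →
      ∀ (j : ∀ i, U ⟶ X i) [∀ i, IsOpenImmersion (j i)], (∀ i, j i ≫ g i = gU) →
      ∃ (Xc : Scheme.{u}) (q : Xc ⟶ S) (_ : IsSeparated q) (_ : QuasiCompact q) (_ : LocallyOfFiniteType q)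
        (jc : U ⟶ Xc) (_ : IsOpenImmersion jc),
        jc ≫ q = gU ∧ ∀ i, ∃ (𝓘 : (X i).IdealSheafData) (X' : Scheme.{u}) (b : X' ⟶ X i) (o : X' ⟶ Xc) (v : U ⟶ X'),
          BlowUp.IsBlowUp b 𝓘 ∧ BlowUp.IsAdmissibleFor (j i).opensRange 𝓘 ∧
            IsOpenImmersion o ∧ o ≫ q = b ≫ g i ∧ v ≫ b = j i ∧ v ≫ o = jc := by
  intro n
  induction n with
  | zero => intros; exact ⟨U, gU, inferInstance, inferInstance, inferInstance, 𝟙 U, inferInstance, Category.id_comp _, fun i => i.elim0⟩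
  | succ n ih =>
    intro X g hgs hgq hgl j hj hjg
    obtain ⟨Xc, q, hqs, hqc, hql, jc, hjc, hjcq, H⟩ := ih (fun i => X i.castSucc) (fun i => g i.castSucc)
      (fun i => hgs _) (fun i => hgq _) (fun i => hgl _) (fun i => j i.castSucc) (fun i => hjg _)
    haveI := hqs
    haveI := hqc
    haveI := hql
    haveI := hjc
    haveI := hgs (Fin.last n)
    haveI := hgq (Fin.last n)
    haveI := hgl (Fin.last n)
    haveI := hj (Fin.last n)
    obtain ⟨P, qP, hPs, hPl, hPc, K, L, Xc', Xn', β, bn, o₁, o₂, v₁, v₂, hβ, haK, hbn, haL, ho₁, ho₂,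
      hq₁, hq₂, hv₁, hv₂, hvv⟩ :=
      RGBlowLib.exists_common_target gU q (g (Fin.last n)) jc (j (Fin.last n)) hjcq (hjg _)
    haveI := ho₁
    haveI := ho₂
    haveI : IsOpenImmersion v₁ :=
      isOpenImmersion_lift_blowUp K hβ jc (fun x h => Set.disjoint_left.1 haK.2 h ⟨x, rfl⟩) v₁ hv₁
    refine ⟨P, qP, hPs, hPc, hPl, v₁ ≫ o₁, inferInstance, by rw [Category.assoc, hq₁, reassoc_of% hv₁, hjcq], fun i => ?_⟩
    induction i using Fin.lastCases with
    | last => exact ⟨L, Xn', bn, o₂, v₂, hbn, haL, ho₂, hq₂, hv₂, hvv.symm⟩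
    | cast i =>
      obtain ⟨𝓘, X', b, o, v, hb, ha, ho, hoq, hv, hvo⟩ := H i
      haveI := ho
      haveI := hgq i.castSucc
      haveI := hgs i.castSucc
      haveI : CompactSpace (X i.castSucc) := QuasiCompact.compactSpace_of_compactSpace (g i.castSucc)
      haveI : QuasiSeparatedSpace (X i.castSucc) := quasiSeparatedSpace_of_quasiSeparated (g i.castSucc)
      have hKft : BlowUp.IsFiniteTypeIdeal (K.comap o) := ModPairLib.fg_comap K o haK.1
      obtain ⟨𝓚, hft, hsupp, hblow⟩ := RGBlowLib.exists_isBlowUp_comp hb ha.1 (K.comap o) hKft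
        (S1680.result o K β hβ)
      refine ⟨𝓚, pullback o β, pullback.fst o β ≫ b, pullback.snd o β ≫ o₁,
        pullback.lift v v₁ (by rw [hvo, hv₁]), hblow, ⟨hft, ?_⟩, inferInstance, ?_, ?_, ?_⟩
      · rw [hsupp, Set.disjoint_union_left]
        refine ⟨ha.2, Set.disjoint_left.2 ?_⟩
        rintro _ ⟨x', hx', rfl⟩ ⟨w, hw⟩
        have hbv : b (v w) = b x' := by
          rw [← Scheme.Hom.comp_apply, hv]
          exact hw
        have e : x' = v w := eq_of_apply_eq_of_notMem_support 𝓘 hb hbv.symm (fun h => Set.disjoint_left.1 ha.2 h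
          ⟨w, by rw [← Scheme.Hom.comp_apply, hv]⟩)
        rw [Scheme.IdealSheafData.support_comap] at hx'
        exact Set.disjoint_left.1 haK.2 (show o x' ∈ K.support from hx') ⟨w, by
          rw [e, ← Scheme.Hom.comp_apply, hvo]⟩
      · rw [Category.assoc, hq₁, ← pullback.condition_assoc, hoq, Category.assoc]
      · rw [pullback.lift_fst_assoc, hv]
      · rw [pullback.lift_snd_assoc]

end Groth.Agent.RGModLib
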