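import Groth.Agent.RGModLib.Target

/-!
# Quasi-dominations and admissible blow-ups
-/

set_option autoImplicit false
set_option linter.style.haveILetI false
set_option backward.isDefEq.respectTransparency false
set_option maxHeartbeats 1000000

universe u

open CategoryTheory CategoryTheory.Limits AlgebraicGeometry

noncomputable section

namespace Groth.Agent.RGModLib

variable {U X Y Y' : Scheme.{u}}

/-- A lift to an open of a scheme-theoretically dominant map is one. -/
theorem dominant_lift_opens (O : Y.Opens) (j : U ⟶ Y) [IsSchemeTheoreticallyDominant j] [QuasiCompact j]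
    (l : U ⟶ (O : Scheme.{u})) (hl : l ≫ O.ι = j) : IsSchemeTheoreticallyDominant l := by
  refine IsSchemeTheoreticallyDominant.of_isPullback (f := j) (g := O.ι) (pX := 𝟙 U) ?_
  refine (IsOpenImmersion.isPullback _ _ _ _ (by rw [hl, Category.id_comp]) ?_).flip
  rw [Scheme.Opens.opensRange_ι, Scheme.Hom.opensRange_of_isIso]
  refine eq_top_iff.2 fun x _ => ?_
  show j x ∈ O
  rw [← hl, Scheme.Hom.comp_apply]
  exact (l x).2

/-- The lift to a blow-up of a scheme-theoretically dominant map off the centre is one. -/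
theorem dominant_lift_blowUp (I : Y.IdealSheafData) {β : Y' ⟶ Y} (hβ : BlowUp.IsBlowUp β I)
    (j : U ⟶ Y) [IsSchemeTheoreticallyDominant j] [QuasiCompact j] (hj : ∀ x, j x ∉ I.support)
    (j' : U ⟶ Y') (hj' : j' ≫ β = j) : IsSchemeTheoreticallyDominant j' := by
  let O : Y.Opens := I.support.compl
  haveI : IsIso (β ∣_ O) := BlowCompLib.isIso_restrict I β hβ
  have hr : Set.range j' ⊆ Set.range (β ⁻¹ᵁ O).ι := by
    rintro _ ⟨x, rfl⟩
    rw [Scheme.Opens.range_ι]
    show β (j' x) ∈ O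
    rw [← Scheme.Hom.comp_apply, hj']
    exact hj x
  have hlift : IsOpenImmersion.lift (β ⁻¹ᵁ O).ι j' hr ≫ (β ∣_ O) ≫ O.ι = j := by
    rw [morphismRestrict_ι, IsOpenImmersion.lift_fac_assoc, hj']
  haveI : IsSchemeTheoreticallyDominant (IsOpenImmersion.lift (β ⁻¹ᵁ O).ι j' hr ≫ (β ∣_ O)) :=
    dominant_lift_opens O j _ (by rw [Category.assoc, hlift])
  have e : IsOpenImmersion.lift (β ⁻¹ᵁ O).ι j' hr =
      (IsOpenImmersion.lift (β ⁻¹ᵁ O).ι j' hr ≫ (β ∣_ O)) ≫ inv (β ∣_ O) := by simp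
  haveI : IsSchemeTheoreticallyDominant (β ⁻¹ᵁ O).ι := by
    have hO : β ⁻¹ᵁ O = (I.comap β).support.compl := by
      ext y
      show β y ∈ O ↔ y ∉ (I.comap β).support
      rw [Scheme.IdealSheafData.support_comap]
      exact Iff.rfl
    rw [hO]
    exact (S1571.result Y' _ hβ.1).2
  have e' : j' = ((IsOpenImmersion.lift (β ⁻¹ᵁ O).ι j' hr ≫ (β ∣_ O)) ≫ inv (β ∣_ O)) ≫ (β ⁻¹ᵁ O).ι := by
    rw [← e, IsOpenImmersion.lift_fac]
  rw [e']
  infer_instance

/-- A closed condition holding on a dense set holds everywhere. -/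
theorem range_subset_of_dense {A B C : Scheme.{u}} (j : A ⟶ B) [IsDominant j] (f : B ⟶ C) {s : Set C}
    (hs : IsClosed s) (h : ∀ a, f (j a) ∈ s) : ∀ b, f b ∈ s := fun b =>
  (closure_minimal (t := f ⁻¹' s) (by rintro _ ⟨a, rfl⟩; exact h a) (hs.preimage f.continuous))
    (j.denseRange b)

/-- The open domain of a quasi-domination of an admissible blow-up is a blow-up, and its graph is closed. -/
theorem quasiDomination_openDomain {S Xt : Scheme.{u}} [QuasiSeparatedSpace S]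
    (gX : X ⟶ S) (gY : Y ⟶ S) [IsSeparated gX] [IsSeparated gY] [QuasiCompact gY]
    (jX : U ⟶ X) (V : Y.Opens) [CompactSpace U] [QuasiSeparatedSpace (V : Scheme.{u})]
    (jV : U ⟶ (V : Scheme.{u})) [IsSchemeTheoreticallyDominant jV]
    (φ : (V : Scheme.{u}) ⟶ X) (hφU : jV ≫ φ = jX) (hφ : V.ι ≫ gY = φ ≫ gX)
    (hφcl : IsClosed (Set.range (fun x => pullback.lift V.ι φ hφ x)))
    (𝓘 : X.IdealSheafData) (h𝓘 : BlowUp.IsFiniteTypeIdeal 𝓘) (hdisj : ∀ x, jX x ∉ 𝓘.support)
    (b : Xt ⟶ X) (hb : BlowUp.IsBlowUp b 𝓘) [IsSeparated b]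
    (W : Xt.Opens) (u : U ⟶ (W : Scheme.{u})) (hu : u ≫ W.ι ≫ b = jX)
    [IsSchemeTheoreticallyDominant (u ≫ W.ι)] [QuasiCompact (u ≫ W.ι)]
    (ψ : (W : Scheme.{u}) ⟶ (V : Scheme.{u})) (hψU : u ≫ ψ = jV)
    (hψ : W.ι ≫ b ≫ gX = ψ ≫ V.ι ≫ gY)
    (hψcl : IsClosed (Set.range (fun x => pullback.lift W.ι ψ hψ x))) :
    BlowUp.IsBlowUp ψ (𝓘.comap φ) ∧
      IsClosed (Set.range (fun x => pullback.lift (f := b ≫ gX) (g := gY) W.ι (ψ ≫ V.ι)
        (hψ.trans (Category.assoc ψ V.ι gY).symm) x)) := by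
  haveI : IsSchemeTheoreticallyDominant u := dominant_lift_opens W (u ≫ W.ι) u rfl
  haveI : QuasiCompact jV := inferInstance
  -- the two compositions to `X` agree
  have hψφ : ψ ≫ φ = W.ι ≫ b := by
    refine ModPairLib.hom_ext_dominant u gX ?_ ?_
    · rw [Category.assoc, ← hφ, Category.assoc, hψ]
    · rw [reassoc_of% hψU, hφU, hu]
  refine ⟨?_, ?_⟩
  · obtain ⟨V', β, hβ⟩ := S8859.result _ (𝓘.comap φ)
    haveI : IsProper β := BlowExistsLib.isProper_of_FG hβ (ModPairLib.fg_comap 𝓘 φ h𝓘)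
    have hdV : ∀ x, jV x ∉ (𝓘.comap φ).support := fun x h => by
      rw [Scheme.IdealSheafData.support_comap] at h
      exact hdisj x (by rw [← hφU, Scheme.Hom.comp_apply]; exact h)
    obtain ⟨j', hj', -⟩ := hβ.2 U jV (BlowCompLib.comap_eq_top _ _ hdV ▸ BlowCompLib.isEffCartier_top)
    haveI : IsSchemeTheoreticallyDominant j' := dominant_lift_blowUp _ hβ jV hdV j' hj'
    haveI : QuasiCompact (j' ≫ β) := by rw [hj']; infer_instance
    haveI : QuasiCompact j' := QuasiCompact.of_comp j' β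
    haveI : IsDominant j' := inferInstance
    obtain ⟨k, hk, -⟩ := hb.2 V' (β ≫ φ) (by rw [Scheme.IdealSheafData.comap_comp]; exact hβ.1)
    have hjk : j' ≫ k = u ≫ W.ι := by
      obtain ⟨w, -, huniq⟩ := hb.2 U jX (BlowCompLib.comap_eq_top _ _ hdisj ▸ BlowCompLib.isEffCartier_top)
      rw [huniq (j' ≫ k) (show (j' ≫ k) ≫ b = jX by rw [Category.assoc, hk, reassoc_of% hj', hφU]),
        huniq (u ≫ W.ι) (show (u ≫ W.ι) ≫ b = jX by rw [Category.assoc, hu])]
    have hcond : k ≫ b ≫ gX = β ≫ V.ι ≫ gY := by rw [reassoc_of% hk, hφ]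
    have hkW : ∀ x, k x ∈ W := fun x => by
      obtain ⟨w, hw⟩ := range_subset_of_dense j' (pullback.lift k β hcond) hψcl (fun a => ⟨u a, by
        show pullback.lift W.ι ψ hψ (u a) = _
        rw [← Scheme.Hom.comp_apply, ← Scheme.Hom.comp_apply]
        rw [show u ≫ pullback.lift W.ι ψ hψ = j' ≫ pullback.lift k β hcond by
          apply pullback.hom_ext <;> simp [hjk, hj', hψU]]⟩) x
      have h := congrArg (pullback.fst (b ≫ gX) (V.ι ≫ gY)) hw
      rw [← Scheme.Hom.comp_apply, ← Scheme.Hom.comp_apply, pullback.lift_fst, pullback.lift_fst] at h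
      rw [← h]
      exact w.2
    have hr : Set.range k ⊆ Set.range W.ι := by
      rintro _ ⟨x, rfl⟩
      rw [Scheme.Opens.range_ι]
      exact hkW x
    let k' := IsOpenImmersion.lift W.ι k hr
    have hk' : k' ≫ W.ι = k := IsOpenImmersion.lift_fac _ _ _
    have hjk' : j' ≫ k' = u := by rw [← cancel_mono W.ι, Category.assoc, hk', hjk]
    have hkψ : k' ≫ ψ = β := by
      refine ModPairLib.hom_ext_dominant j' (V.ι ≫ gY) ?_ ?_
      · rw [Category.assoc, ← hψ, reassoc_of% hk', hcond]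
      · rw [reassoc_of% hjk', hψU, hj']
    obtain ⟨m, hm, -⟩ := hβ.2 _ ψ (by
      rw [← Scheme.IdealSheafData.comap_comp, hψφ, Scheme.IdealSheafData.comap_comp]
      exact BlowCompLib.isEffCartier_comap_openImmersion hb.1 W.ι)
    have hum : u ≫ m = j' := by
      obtain ⟨w, -, huniq⟩ := hβ.2 U jV (BlowCompLib.comap_eq_top _ _ hdV ▸ BlowCompLib.isEffCartier_top)
      rw [huniq (u ≫ m) (show (u ≫ m) ≫ β = jV by rw [Category.assoc, hm, hψU]), huniq j' hj']
    have hmk : m ≫ k' = 𝟙 _ := by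
      refine ModPairLib.hom_ext_dominant u (W.ι ≫ b ≫ gX) ?_ ?_
      · rw [Category.assoc, reassoc_of% hk', hcond, reassoc_of% hm, ← hψ, Category.id_comp]
      · rw [reassoc_of% hum, hjk', Category.comp_id]
    have hkm : k' ≫ m = 𝟙 _ := by
      obtain ⟨w, -, huniq⟩ := hβ.2 V' β hβ.1
      rw [huniq (k' ≫ m) (show (k' ≫ m) ≫ β = β by rw [Category.assoc, hm, hkψ]), huniq (𝟙 V') (Category.id_comp β)]
    let e : (W : Scheme.{u}) ≅ V' := ⟨m, k', hmk, hkm⟩
    rw [← hm]
    exact S8857.isBlowUp_iso hβ e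
  · let ι' : pullback (b ≫ gX) (V.ι ≫ gY) ⟶ pullback (b ≫ gX) gY :=
      pullback.map _ _ _ _ (𝟙 Xt) V.ι (𝟙 S) (by simp) (by simp)
    haveI : IsOpenImmersion ι' := MorphismProperty.pullbackMap (P := @IsOpenImmersion) (f' := b ≫ gX) (g' := gY)
      (inferInstanceAs (IsOpenImmersion (𝟙 Xt))) (inferInstanceAs (IsOpenImmersion V.ι)) (by simp) rfl
    let L := pullback.lift (f := b ≫ gX) (g := gY) W.ι (ψ ≫ V.ι) (hψ.trans (Category.assoc ψ V.ι gY).symm)
    let L' := pullback.lift W.ι ψ hψ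
    have hL : L' ≫ ι' = L := by apply pullback.hom_ext <;> simp [L, L', ι']
    let M : pullback (b ≫ gX) gY ⟶ pullback gY gX :=
      pullback.lift (pullback.snd _ _) (pullback.fst _ _ ≫ b) (by rw [Category.assoc, pullback.condition])
    have hLM : L ≫ M = ψ ≫ pullback.lift V.ι φ hφ := by
      apply pullback.hom_ext <;> simp [L, M, hψφ]
    have hsub : M ⁻¹' Set.range (fun x => pullback.lift V.ι φ hφ x) ⊆ Set.range ι' := by
      rintro z ⟨v, hv⟩
      have hz : z ∈ (pullback.snd (b ≫ gX) gY) ⁻¹ᵁ V := by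
        show pullback.snd (b ≫ gX) gY z ∈ V
        have h := congrArg (pullback.fst gY gX) hv
        rw [← Scheme.Hom.comp_apply, ← Scheme.Hom.comp_apply, pullback.lift_fst, pullback.lift_fst] at h
        rw [← h]
        exact v.2
      let e : (((pullback.snd (b ≫ gX) gY) ⁻¹ᵁ V : (pullback (b ≫ gX) gY).Opens) : Scheme.{u}) ⟶
          pullback (b ≫ gX) (V.ι ≫ gY) :=
        pullback.lift (Scheme.Opens.ι _ ≫ pullback.fst _ _) (pullback.snd (b ≫ gX) gY ∣_ V)
          (by rw [Category.assoc, pullback.condition, morphismRestrict_ι_assoc])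
      have he : e ≫ ι' = Scheme.Opens.ι _ := by apply pullback.hom_ext <;> simp [e, ι']
      exact ⟨e ⟨z, hz⟩, by rw [← Scheme.Hom.comp_apply, he]; rfl⟩
    have hrL : Set.range (fun x => L x) = ι' '' Set.range L' := by
      rw [← Set.range_comp, ← hL]
      rfl
    show IsClosed (Set.range (fun x => L x))
    refine closure_eq_iff_isClosed.1 (subset_antisymm (fun z hz => ?_) subset_closure)
    obtain ⟨w, rfl⟩ := hsub (closure_minimal (t := M ⁻¹' Set.range (fun x => pullback.lift V.ι φ hφ x)) (by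
      rintro _ ⟨x, rfl⟩
      exact ⟨ψ x, by show pullback.lift V.ι φ hφ (ψ x) = M (L x); rw [← Scheme.Hom.comp_apply, ← Scheme.Hom.comp_apply, hLM]⟩)
      (hφcl.preimage M.continuous) hz)
    have hw : w ∈ closure (Set.range L') := by
      rw [ι'.isOpenEmbedding.isEmbedding.closure_eq_preimage_closure_image, ← hrL]
      exact hz
    rw [hrL]
    exact ⟨w, (closure_eq_iff_isClosed.2 hψcl ▸ hw : w ∈ Set.range L'), rfl⟩

end Groth.Agent.RGModLib
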