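import Groth.Agent.RGModLib.Common
import Groth.Agent.RGModLib.QDom
import Groth.Agent.RGModLib.NTarget
import Groth.Agent.S9706
import Groth.Agent.S9708
import Groth.Agent.S8910
import Groth.Agent.S4452
import Groth.Agent.S4418

/-!
# Chow's lemma for a scheme with a quasi-projective open
-/

set_option autoImplicit false
set_option linter.style.haveILetI false
set_option backward.isDefEq.respectTransparency false
set_option maxHeartbeats 1000000

universe u

open CategoryTheory CategoryTheory.Limits AlgebraicGeometry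

noncomputable section

namespace Groth.Agent.RGModLib

variable {X Z S : Scheme.{u}}

/-- A separated morphism with a schematically dominant section over an open is an isomorphism over it. -/
theorem isIso_restrict_of_dominant_section (h : Z ⟶ X) [IsSeparated h] (U : X.Opens) [QuasiCompact U.ι]
    (s : (U : Scheme.{u}) ⟶ Z) [IsSchemeTheoreticallyDominant s] [QuasiCompact s] (hs : s ≫ h = U.ι) :
    IsIso (h ∣_ U) := by
  let P : Z.Opens := h ⁻¹ᵁ U
  haveI : IsSchemeTheoreticallyDominant (s ∣_ P) :=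
    IsSchemeTheoreticallyDominant.of_isPullback (isPullback_morphismRestrict s P).flip
  haveI : IsIso (U.ι ∣_ U) := (isIso_iff_isOpenImmersion_and_surjective _).2
    ⟨inferInstance, ⟨fun y => ⟨⟨y, y.2⟩, U.ι.injective (by
      rw [← Scheme.Hom.comp_apply, morphismRestrict_ι]; rfl)⟩⟩⟩
  haveI : IsIso ((s ≫ h) ∣_ U) := by rw [hs]; infer_instance
  haveI : IsClosedImmersion ((s ∣_ P) ≫ (h ∣_ U)) := by
    rw [← morphismRestrict_comp]
    infer_instance
  haveI : IsClosedImmersion (s ∣_ P) := IsClosedImmersion.of_comp _ (h ∣_ U)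
  haveI : IsIso (s ∣_ P) := S0449.isIso_of_dominant _
  haveI : IsIso ((s ∣_ P) ≫ (h ∣_ U)) := by
    rw [← morphismRestrict_comp]
    infer_instance
  exact IsIso.of_isIso_comp_left (s ∣_ P) (h ∣_ U)

/-- Refined Chow lemma. -/
theorem exists_chow_refined [CompactSpace S] [QuasiSeparatedSpace S]
    (f : X ⟶ S) [IsSeparated f] [QuasiCompact f] [LocallyOfFiniteType f]
    (U : X.Opens) (hU : IsCompact (U : Set X)) (hq : RelProj.IsQuasiProjective (U.ι ≫ f)) :
    ∃ (𝓘 : X.IdealSheafData) (X' P : Scheme.{u}) (q : X' ⟶ X) (j : X' ⟶ P) (g : P ⟶ S),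
      BlowUp.IsBlowUp q 𝓘 ∧ BlowUp.IsAdmissibleFor U 𝓘 ∧ RelProj.IsProjective g ∧
      IsOpenImmersion j ∧ IsDominant j ∧ j ≫ g = q ≫ f := by
  haveI : CompactSpace X := QuasiCompact.compactSpace_of_compactSpace f
  haveI : QuasiSeparatedSpace X := quasiSeparatedSpace_of_quasiSeparated f
  haveI : CompactSpace U := isCompact_iff_compactSpace.1 hU
  -- a projective scheme with `U` schematically dense
  obtain ⟨P₁, j₁, π₁, hj₁, hπ₁, hjπ⟩ := S9706.result (U.ι ≫ f) hq
  haveI := hj₁
  haveI : IsProper π₁ := (S4418.result π₁ hπ₁).2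
  haveI : QuasiCompact (j₁ ≫ π₁) := by rw [hjπ]; infer_instance
  haveI : QuasiCompact j₁ := QuasiCompact.of_comp j₁ π₁
  let π : j₁.image ⟶ S := j₁.imageι ≫ π₁
  have hπ : RelProj.IsProjective π := S9708.result _ _ (S4452.result j₁.imageι) hπ₁
  haveI : IsProper π := (S4418.result π hπ).2
  let j : (U : Scheme.{u}) ⟶ j₁.image := j₁.toImage
  haveI : IsSchemeTheoreticallyDominant j := SchDenseLib.toImage_dominant j₁
  haveI : IsImmersion (j₁.toImage ≫ j₁.imageι) := by rw [Scheme.Hom.toImage_imageι]; infer_instance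
  haveI : IsImmersion j := IsImmersion.of_comp _ j₁.imageι
  haveI : IsOpenImmersion j := SchDenseLib.isOpenImmersion_of_dominant _ (Or.inl inferInstance)
  have hj : j ≫ π = U.ι ≫ f := by simp only [j, π, Scheme.Hom.toImage_imageι_assoc, hjπ]
  haveI : CompactSpace j₁.image := QuasiCompact.compactSpace_of_compactSpace π
  haveI : QuasiSeparatedSpace j₁.image := quasiSeparatedSpace_of_quasiSeparated π
  -- the closure of the graph
  let p₁ := pullback.fst π f
  let p₂ := pullback.snd π f
  haveI : IsSeparated p₁ := MorphismProperty.pullback_fst (P := @IsSeparated) _ _ inferInstance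
  haveI : LocallyOfFiniteType p₁ := MorphismProperty.pullback_fst (P := @LocallyOfFiniteType) _ _ inferInstance
  haveI : QuasiCompact p₁ := MorphismProperty.pullback_fst (P := @QuasiCompact) _ _ inferInstance
  haveI : IsProper p₂ := MorphismProperty.pullback_snd (P := @IsProper) _ _ inferInstance
  let t : (U : Scheme.{u}) ⟶ pullback π f := pullback.lift j U.ι hj
  have ht₁ : t ≫ p₁ = j := pullback.lift_fst _ _ _
  have ht₂ : t ≫ p₂ = U.ι := pullback.lift_snd _ _ _
  haveI : QuasiCompact (t ≫ p₁) := by rw [ht₁]; infer_instance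
  haveI : QuasiCompact t := QuasiCompact.of_comp t p₁
  let z := t.imageι ≫ p₁
  haveI : IsIso (z ∣_ j.opensRange) := RGBlowLib.isIso_image_restrict' p₁ t j ht₁
  haveI : CompactSpace t.image := QuasiCompact.compactSpace_of_compactSpace z
  have hR : IsCompact (j.opensRange : Set ↥j₁.image) := isCompact_range j.continuous
  obtain ⟨I, Y', b, hb, hadm, V', m, hle, hm, hmz, -⟩ := RGBlowLib.exists_open_strict_blowUp z j.opensRange hR
  haveI := hm
  haveI : IsProper b := RGBlowLib.isProper_blowUp hb hadm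
  let h : (V' : Scheme.{u}) ⟶ X := m ≫ t.imageι ≫ p₂
  haveI : IsProper (t.imageι ≫ p₂) := MorphismProperty.comp_mem (W := @IsProper) _ _ inferInstance inferInstance
  haveI : IsProper h := MorphismProperty.comp_mem (W := @IsProper) _ _ inferInstance inferInstance
  have hmz' : m ≫ t.imageι ≫ p₁ = V'.ι ≫ b := hmz
  have hhf : h ≫ f = V'.ι ≫ b ≫ π := by
    simp only [h, Category.assoc, p₂]
    rw [← pullback.condition, reassoc_of% hmz']
  -- the section over `U`
  have hIj : ∀ x, j x ∉ I.support := fun x hx => Set.disjoint_left.1 hadm.2 hx ⟨x, rfl⟩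
  obtain ⟨j', hj', -⟩ := hb.2 _ j (BlowCompLib.comap_eq_top _ _ hIj ▸ BlowCompLib.isEffCartier_top)
  haveI : IsSchemeTheoreticallyDominant j' := dominant_lift_blowUp I hb j hIj j' hj'
  haveI : IsOpenImmersion j' := isOpenImmersion_lift_blowUp I hb j hIj j' hj'
  haveI : QuasiCompact (j' ≫ b) := by rw [hj']; infer_instance
  haveI : QuasiCompact j' := QuasiCompact.of_comp j' b
  have hr : Set.range j' ⊆ Set.range V'.ι := by
    rintro _ ⟨x, rfl⟩
    rw [Scheme.Opens.range_ι]
    refine hle (show b (j' x) ∈ j.opensRange from ⟨x, ?_⟩)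
    rw [← Scheme.Hom.comp_apply, hj']
  let s := IsOpenImmersion.lift V'.ι j' hr
  have hs' : s ≫ V'.ι = j' := IsOpenImmersion.lift_fac _ _ _
  haveI : IsSchemeTheoreticallyDominant s := dominant_lift_opens V' j' s hs'
  have hsh : s ≫ h = U.ι := by
    have hsm : s ≫ m = t.toImage := by
      refine RGBlowLib.eq_of_iso_over z j.opensRange _ _ ?_ fun x => ?_
      · simp only [z, Category.assoc, Scheme.Hom.toImage_imageι_assoc, ht₁]
        rw [hmz', reassoc_of% hs', hj']
      · simp only [z, Scheme.Hom.toImage_imageι_assoc, ht₁]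
        exact ⟨x, rfl⟩
    simp only [h]
    rw [reassoc_of% hsm, Scheme.Hom.toImage_imageι_assoc, ht₂]
  haveI : QuasiCompact U.ι := inferInstance
  haveI : QuasiCompact (s ≫ h) := by rw [hsh]; infer_instance
  haveI : QuasiCompact s := QuasiCompact.of_comp s h
  haveI : IsIso (h ∣_ U) := isIso_restrict_of_dominant_section h U s hsh
  -- a common blow-up
  obtain ⟨𝓘, Y, c', hc', hadm', hch, hadmX⟩ := exists_common_blowUp h U hU
  have hVc : CompactSpace (V' : Scheme.{u}) := QuasiCompact.compactSpace_of_compactSpace h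
  have hK : BlowUp.IsAdmissibleFor (V'.ι ⁻¹ᵁ (b ⁻¹ᵁ j.opensRange)) (𝓘.comap h) := by
    refine ⟨hadm'.1, Set.disjoint_left.2 fun v hv hvR => Set.disjoint_left.1 hadm'.2 hv ?_⟩
    obtain ⟨x, hx⟩ := (hvR : b (V'.ι v) ∈ j.opensRange)
    have e : j' x = V'.ι v := eq_of_apply_eq_of_notMem_support I hb
      (by rw [← Scheme.Hom.comp_apply, hj']; exact hx) (by rw [← hx]; exact hIj x)
    have e' : s x = v := V'.ι.isOpenEmbedding.injective (by rw [← e, ← hs']; rfl)
    show h v ∈ U
    rw [← e', ← Scheme.Hom.comp_apply, hsh]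
    exact x.2
  haveI : CompactSpace Y' := QuasiCompact.compactSpace_of_compactSpace b
  haveI : QuasiSeparatedSpace Y' := quasiSeparatedSpace_of_quasiSeparated b
  obtain ⟨𝓙, hadmJ, -, hres⟩ := S8857.result Y' (b ⁻¹ᵁ j.opensRange) V'
    (QuasiCompact.isCompact_preimage _ j.opensRange.2 hR) (isCompact_iff_compactSpace.2 hVc) _ hK
  obtain ⟨P, d, hd⟩ := S8859.result Y' 𝓙
  obtain ⟨α, hα⟩ := S8858.exists_iso_blowUp hc' (hres P d hd)
  refine ⟨𝓘, Y, P, c' ≫ h, α.hom ≫ (d ⁻¹ᵁ V').ι, d ≫ b ≫ π, hch, hadmX, ?_, inferInstance, ?_, ?_⟩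
  · exact S9708.result _ _ (S8910.result 𝓙 hadmJ.1 d hd) (S9708.result _ _ (S8910.result I hadm.1 b hb) hπ)
  · have hJj : ∀ x, j' x ∉ 𝓙.support := fun x hx => Set.disjoint_left.1 hadmJ.2 hx
      (show b (j' x) ∈ j.opensRange from ⟨x, by rw [← Scheme.Hom.comp_apply, hj']⟩)
    obtain ⟨j'', hj'', -⟩ := hd.2 _ j' (BlowCompLib.comap_eq_top _ _ hJj ▸ BlowCompLib.isEffCartier_top)
    haveI : IsSchemeTheoreticallyDominant j'' := dominant_lift_blowUp 𝓙 hd j' hJj j'' hj''
    haveI : IsProper d := RGBlowLib.isProper_blowUp hd hadmJ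
    haveI : QuasiCompact (j'' ≫ d) := by rw [hj'']; infer_instance
    haveI : QuasiCompact j'' := QuasiCompact.of_comp j'' d
    refine ⟨(j''.denseRange).mono ?_⟩
    rintro _ ⟨x, rfl⟩
    obtain ⟨w, hw⟩ : j'' x ∈ Set.range (d ⁻¹ᵁ V').ι := by
      rw [Scheme.Opens.range_ι]
      show d (j'' x) ∈ V'
      rw [← Scheme.Hom.comp_apply, hj'', ← hs']
      exact (s x).2
    obtain ⟨w', hw'⟩ := α.hom.surjective w
    refine ⟨w', ?_⟩
    rw [← hw, ← hw']
    rfl
  · rw [Category.assoc, Category.assoc, ← morphismRestrict_ι_assoc, ← hhf, reassoc_of% hα]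

end Groth.Agent.RGModLib
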