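import Groth.Agent.RGBlowLib.Target
import Groth.Agent.HTopAlm.Exists
import Groth.Agent.NApproxLib.Main
import Groth.Agent.S0591
import Groth.Agent.S2075

/-!
# Flattening by almost blow-ups
-/

set_option autoImplicit false
set_option linter.style.haveILetI false
set_option backward.isDefEq.respectTransparency false
set_option maxHeartbeats 1000000

universe u

open CategoryTheory CategoryTheory.Limits AlgebraicGeometry

noncomputable section

namespace Groth.Agent.RGModLib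

/-- The flattening datum of the theorem. -/
def AlmostFlattened {X Y : Scheme.{u}} (f : X ⟶ Y) (V : Y.Opens) : Prop :=
  ∃ (Z Y' E T X' D : Scheme.{u}) (iZ : Z ⟶ Y) (bY : Y' ⟶ Y) (eE : E ⟶ Y') (πE : E ⟶ Z) (iT : T ⟶ X)
    (bX : X' ⟶ X) (eD : D ⟶ X') (πD : D ⟶ T) (fZ : T ⟶ Z) (f' : X' ⟶ Y') (fE : D ⟶ E),
      HTop.IsAlmostBlowUpSquare eE πE bY iZ ∧ HTop.IsAlmostBlowUpSquare eD πD bX iT ∧ IsPullback fZ iT iZ f ∧
      IsPullback fE eD eE f' ∧ f' ≫ bY = bX ≫ f ∧ πD ≫ fZ = fE ≫ πE ∧ iZ ⁻¹ᵁ V = ⊥ ∧ Flat f' ∧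
      LocallyOfFinitePresentation f'

/-- Complete the exceptional corners. -/
theorem exists_corners {X Y Z Y' X' T : Scheme.{u}} {f : X ⟶ Y} {iZ : Z ⟶ Y} {bY : Y' ⟶ Y} {bX : X' ⟶ X}
    {iT : T ⟶ X} {fZ : T ⟶ Z} (hT : IsPullback fZ iT iZ f) {f' : X' ⟶ Y'} (hw : f' ≫ bY = bX ≫ f) :
    ∃ fE : pullback bX iT ⟶ pullback bY iZ,
      IsPullback fE (pullback.fst bX iT) (pullback.fst bY iZ) f' ∧
        pullback.snd bX iT ≫ fZ = fE ≫ pullback.snd bY iZ := by
  have hout : IsPullback (pullback.snd bX iT ≫ fZ) (pullback.fst bX iT) iZ (bX ≫ f) :=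
    (IsPullback.of_hasPullback bX iT).flip.paste_horiz hT
  let fE : pullback bX iT ⟶ pullback bY iZ :=
    pullback.lift (pullback.fst bX iT ≫ f') (pullback.snd bX iT ≫ fZ)
      (by rw [Category.assoc, hw, hout.w])
  refine ⟨fE, ?_, (pullback.lift_snd _ _ _).symm⟩
  rw [← hw, ← show fE ≫ pullback.snd bY iZ = pullback.snd bX iT ≫ fZ from pullback.lift_snd _ _ _] at hout
  exact IsPullback.of_right hout (pullback.lift_fst _ _ _) (IsPullback.of_hasPullback bY iZ).flip

/-- The strict transform of a morphism is the blow-up of its source in the pulled back centre. -/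
theorem isBlowUp_killed_flat {X S S' : Scheme.{u}} (φ : X ⟶ S) {𝓘 : S.IdealSheafData} {b : S' ⟶ S} (hb : BlowUp.IsBlowUp b 𝓘)
    (𝒥 : (pullback φ b).IdealSheafData)
    (hJ : ∀ (O : (pullback φ b).affineOpens) (a : Γ(pullback φ b, O.1)), a ∈ 𝒥.ideal O ↔
      BlowUp.KilledByPowerNear ((𝓘.comap φ).comap (pullback.fst φ b)) (Coh.structureModule (pullback φ b)) O a)
    [Flat (𝒥.subschemeι ≫ pullback.snd φ b)] :
    BlowUp.IsBlowUp (𝒥.subschemeι ≫ pullback.fst φ b) (𝓘.comap φ) := by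
  refine ⟨?_, fun T h hh => ?_⟩
  · have e : (𝓘.comap φ).comap (𝒥.subschemeι ≫ pullback.fst φ b) =
        (𝓘.comap b).comap (𝒥.subschemeι ≫ pullback.snd φ b) := by
      rw [← Scheme.IdealSheafData.comap_comp, ← Scheme.IdealSheafData.comap_comp, Category.assoc, Category.assoc,
        pullback.condition]
    rw [e]
    exact BlowCompLib.isEffCartier_comap_flat hb.1 _
  · obtain ⟨k, hk, huniq⟩ := hb.2 T (h ≫ φ) (by rw [Scheme.IdealSheafData.comap_comp]; exact hh)
    let t : T ⟶ pullback φ b := pullback.lift h k hk.symm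
    have hker : 𝒥.subschemeι.ker ≤ t.ker := by
      rw [Scheme.IdealSheafData.ker_subschemeι, ← Scheme.IdealSheafData.map_bot t]
      exact Scheme.IdealSheafData.le_map_iff_comap_le.2 (RGBlowLib.comap_killed_eq_bot _ 𝒥 hJ t (by
        rw [← Scheme.IdealSheafData.comap_comp, pullback.lift_fst]; exact hh)).le
    let s := IsClosedImmersion.lift 𝒥.subschemeι t hker
    have hs : s ≫ 𝒥.subschemeι = t := IsClosedImmersion.lift_fac _ _ _
    refine ⟨s, by show s ≫ 𝒥.subschemeι ≫ pullback.fst φ b = h; rw [← Category.assoc, hs, pullback.lift_fst],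
      fun s' hs' => ?_⟩
    rw [← cancel_mono 𝒥.subschemeι, hs]
    refine pullback.hom_ext ?_ ?_
    · rw [pullback.lift_fst, Category.assoc]
      exact hs'
    · rw [pullback.lift_snd, Category.assoc]
      refine huniq _ ?_
      show (s' ≫ 𝒥.subschemeι ≫ pullback.snd φ b) ≫ b = h ≫ φ
      rw [← (show s' ≫ 𝒥.subschemeι ≫ pullback.fst φ b = h from hs'), Category.assoc, Category.assoc, Category.assoc,
        Category.assoc, pullback.condition]

/-- Flattening by almost blow-ups over a noetherian base. -/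
theorem almostFlattened_noetherian {X Y : Scheme.{u}} [CompactSpace Y] [QuasiSeparatedSpace Y] [IsLocallyNoetherian Y]
    (f : X ⟶ Y) [LocallyOfFiniteType f] [QuasiCompact f] (V : Y.Opens) (hV : IsCompact (V : Set Y))
    [Flat (f ∣_ V)] [LocallyOfFinitePresentation (f ∣_ V)] :
    AlmostFlattened f V := by
  haveI : IsLocallyNoetherian X := LocallyOfFiniteType.isLocallyNoetherian f
  obtain ⟨𝓘, Y', b, hb, hadm, H⟩ := RGBlowLib.exists_flattening_scheme f V hV
  haveI : IsProper b := RGBlowLib.isProper_blowUp hb hadm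
  have hc := IsPullback.of_hasPullback f b
  obtain ⟨𝒥, hJ⟩ := RGBlowLib.exists_killed_of_fg ((𝓘.comap f).comap (pullback.fst f b)) (by
    rw [← Scheme.IdealSheafData.comap_comp, pullback.condition, Scheme.IdealSheafData.comap_comp]
    exact ModPairLib.fg_of_isLP ((ModPairLib.isLP_of_cart hb.1).comap _))
  obtain ⟨hfl, hfp, -, -⟩ := H _ _ _ hc 𝒥 hJ
  let iZ := 𝓘.subschemeι
  have hiZ : iZ.ker = 𝓘 := 𝓘.ker_subschemeι
  let bX := 𝒥.subschemeι ≫ pullback.fst f b
  let f' := 𝒥.subschemeι ≫ pullback.snd f b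
  let iT := pullback.fst f iZ
  have hiT : iT.ker = 𝓘.comap f := by
    simp only [iT]
    rw [Scheme.IdealSheafData.ker_fst_of_isClosedImmersion iZ f, hiZ]
  have hbX : BlowUp.IsBlowUp bX (𝓘.comap f) := haveI := hfl; isBlowUp_killed_flat f hb 𝒥 hJ
  haveI : IsClosedImmersion iT := MorphismProperty.pullback_fst (P := @IsClosedImmersion) _ _ inferInstance
  haveI : IsProper (pullback.fst f b) := MorphismProperty.pullback_fst (P := @IsProper) _ _ inferInstance
  haveI : IsProper bX := MorphismProperty.comp_mem (W := @IsProper) _ _ inferInstance inferInstance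
  haveI : LocallyOfFinitePresentation iZ := inferInstance
  haveI : LocallyOfFinitePresentation iT := inferInstance
  haveI : LocallyOfFinitePresentation b := inferInstance
  haveI : LocallyOfFinitePresentation bX := inferInstance
  have hw : f' ≫ b = bX ≫ f := by simp only [f', bX, Category.assoc, pullback.condition]
  have hT : IsPullback (pullback.snd f iZ) iT iZ f := (IsPullback.of_hasPullback f iZ).flip
  obtain ⟨fE, hfE, hfE'⟩ := exists_corners hT hw
  refine ⟨_, Y', _, _, _, _, iZ, b, _, _, iT, bX, _, _, _, f', fE,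
    HTopAlm.of_isBlowUp (IsPullback.of_hasPullback b iZ) (hiZ.symm ▸ hb),
    HTopAlm.of_isBlowUp (IsPullback.of_hasPullback bX iT) (hiT.symm ▸ hbX), hT, hfE, hw, hfE', ?_, hfl, hfp⟩
  refine eq_bot_iff.2 fun z hz => Set.disjoint_left.1 hadm.2 ?_ hz
  rw [← 𝓘.range_subschemeι]
  exact ⟨z, rfl⟩

/-- The datum is stable under base change. -/
theorem almostFlattened_baseChange {X Y X₀ Y₀ : Scheme.{u}} {f₀ : X₀ ⟶ Y₀} {V₀ : Y₀.Opens}
    (H : AlmostFlattened f₀ V₀) {g : Y ⟶ Y₀} {gX : X ⟶ X₀} {f : X ⟶ Y} (hX : IsPullback gX f f₀ g) :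
    AlmostFlattened f (g ⁻¹ᵁ V₀) := by
  obtain ⟨Z, Y', E, T, X', D, iZ, bY, eE, πE, iT, bX, eD, πD, fZ, f', fE, hY, hXs, hT, -, hw, -, hV, hfl, hfp⟩ := H
  haveI := hfl
  haveI := hfp
  let iZ₁ := pullback.snd iZ g
  have hZ₁ : IsPullback (pullback.fst iZ g) iZ₁ iZ g := IsPullback.of_hasPullback iZ g
  let bY₁ := pullback.snd bY g
  have hY₁ : IsPullback (pullback.fst bY g) bY₁ bY g := IsPullback.of_hasPullback bY g
  let bX₁ := pullback.snd bX gX
  have hX₁ : IsPullback (pullback.fst bX gX) bX₁ bX gX := IsPullback.of_hasPullback bX gX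
  have hout : IsPullback (pullback.fst bX gX) (bX₁ ≫ f) (bX ≫ f₀) g := hX₁.paste_vert hX
  let f₁ : pullback bX gX ⟶ pullback bY g :=
    pullback.lift (pullback.fst bX gX ≫ f') (bX₁ ≫ f) (by rw [Category.assoc, hw, hout.w])
  have hf₁ : f₁ ≫ bY₁ = bX₁ ≫ f := pullback.lift_snd _ _ _
  have hsq : IsPullback (pullback.fst bX gX) f₁ f' (pullback.fst bY g) := by
    refine IsPullback.of_bot ?_ (pullback.lift_fst _ _ _).symm hY₁
    rw [hw, hf₁]
    exact hout
  haveI : Flat f₁ := MorphismProperty.of_isPullback hsq hfl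
  haveI : LocallyOfFinitePresentation f₁ := MorphismProperty.of_isPullback hsq hfp
  let iT₁ := pullback.fst f iZ₁
  have hT₁ : IsPullback (pullback.snd f iZ₁) iT₁ iZ₁ f := (IsPullback.of_hasPullback f iZ₁).flip
  have hout₂ : IsPullback (pullback.snd f iZ₁ ≫ pullback.fst iZ g) iT₁ iZ (f ≫ g) := hT₁.paste_horiz hZ₁
  let gT : pullback f iZ₁ ⟶ T :=
    hT.lift (pullback.snd f iZ₁ ≫ pullback.fst iZ g) (iT₁ ≫ gX) (by rw [hout₂.w, Category.assoc, hX.w])
  have hTT : IsPullback gT iT₁ iT gX := by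
    refine IsPullback.of_right ?_ (hT.lift_snd _ _ _) hT
    rw [hT.lift_fst, hX.w]
    exact hout₂
  obtain ⟨fE₁, hfE, hfE'⟩ := exists_corners hT₁ hf₁
  refine ⟨_, _, _, _, _, _, iZ₁, bY₁, _, _, iT₁, bX₁, _, _, _, f₁, fE₁,
    HTopAlm.baseChange hY g hY₁ hZ₁ (IsPullback.of_hasPullback bY₁ iZ₁),
    HTopAlm.baseChange hXs gX hX₁ hTT (IsPullback.of_hasPullback bX₁ iT₁), hT₁, hfE, hf₁, hfE', ?_,
    inferInstance, inferInstance⟩
  refine eq_bot_iff.2 fun z hz => ?_
  have h : pullback.fst iZ g z ∈ iZ ⁻¹ᵁ V₀ := by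
    show iZ (pullback.fst iZ g z) ∈ V₀
    rw [← Scheme.Hom.comp_apply, pullback.condition]
    exact hz
  rw [hV] at h
  exact h.elim

/-- Flattening by almost blow-ups. -/
theorem almostFlattened {X Y : Scheme.{u}} [CompactSpace Y] [QuasiSeparatedSpace Y] (f : X ⟶ Y)
    [LocallyOfFinitePresentation f] [QuasiCompact f] [QuasiSeparated f] (V : Y.Opens) (hV : IsCompact (V : Set Y))
    [hfV : Flat (f ∣_ V)] : AlmostFlattened f V := by
  obtain ⟨S₀, q, hq, hc, hft⟩ := NApproxLib.hasFTZ Y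
  haveI := hq
  haveI := hc
  haveI := NApproxLib.isLocallyNoetherian_of_isFTZ hft
  obtain ⟨hL⟩ := NApproxLib.nonempty_isLimit_cone q
  let D := NApproxLib.sys q
  let c := NApproxLib.cone q
  haveI : ∀ k, CompactSpace (D.obj k) := fun k => NApproxLib.compactSpace_stage q k.unop
  haveI : ∀ k, IsLocallyNoetherian (D.obj k) := fun k =>
    NApproxLib.isLocallyNoetherian_of_isFTZ (NApproxLib.isFTZ_stage q hft k.unop)
  obtain ⟨i, Xi, fi, gi, hfip, hfiq, hfis, hpi⟩ := S0591.result D c hL X f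
  haveI := hfip
  haveI := hfiq
  obtain ⟨i', Vi, hVic, hVi⟩ := exists_preimage_eq D c hL V hV
  obtain ⟨k, a, a', -⟩ := IsCofilteredOrEmpty.cone_objs i i'
  let Vk : (D.obj k).Opens := D.map a' ⁻¹ᵁ Vi
  have hVk : c.π.app k ⁻¹ᵁ Vk = V := by
    rw [← hVi, ← c.w a', Scheme.Hom.comp_preimage]
  have hVkc : IsCompact (Vk : Set (D.obj k)) := QuasiCompact.isCompact_preimage (f := D.map a') _ Vi.2 hVic
  haveI : CompactSpace (Vk : Scheme.{u}) := isCompact_iff_compactSpace.1 hVkc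
  haveI : QuasiSeparatedSpace (Vk : Scheme.{u}) := QuasiSeparatedSpace.of_isOpenEmbedding Vk.ι.isOpenEmbedding
  let fk := pullback.snd fi (D.map a)
  have hfk : IsPullback (pullback.fst fi (D.map a)) fk fi (D.map a) := IsPullback.of_hasPullback _ _
  let gk : X ⟶ pullback fi (D.map a) :=
    pullback.lift gi (f ≫ c.π.app k) (by rw [Category.assoc, c.w a]; exact hpi.w)
  have hpk : IsPullback gk f fk (c.π.app k) := by
    refine IsPullback.of_right ?_ (pullback.lift_snd _ _ _) hfk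
    rw [pullback.lift_fst, c.w a]
    exact hpi
  haveI : CompactSpace (fk ⁻¹ᵁ Vk : (pullback fi (D.map a)).Opens) :=
    isCompact_iff_compactSpace.1 (QuasiCompact.isCompact_preimage (f := fk) _ Vk.2 hVkc)
  haveI : QuasiSeparated fk := MorphismProperty.pullback_snd (P := @QuasiSeparated) _ _ hfis
  haveI : QuasiSeparatedSpace (pullback fi (D.map a) : Scheme.{u}) := quasiSeparatedSpace_of_quasiSeparated fk
  haveI : QuasiSeparatedSpace (fk ⁻¹ᵁ Vk : (pullback fi (D.map a)).Opens) :=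
    QuasiSeparatedSpace.of_isOpenEmbedding (fk ⁻¹ᵁ Vk).ι.isOpenEmbedding
  obtain ⟨l, hl⟩ := RGBlowLib.isPullback_restrict_snd fk Vk (c.π.app k) hpk
  haveI : Flat (f ∣_ (c.π.app k ⁻¹ᵁ Vk)) := hVk.symm ▸ hfV
  haveI : LocallyOfFinitePresentation (fk ∣_ Vk) :=
    IsZariskiLocalAtTarget.restrict (P := @LocallyOfFinitePresentation) inferInstance Vk
  obtain ⟨k', φ, Xj, Yj, fj, gj, pY, pX, hY, hX, hfj⟩ := S2075.result D c hL k (fk ∣_ Vk) Vk.ι
    (f ∣_ (c.π.app k ⁻¹ᵁ Vk)) (c.π.app k ⁻¹ᵁ Vk).ι (c.π.app k ∣_ Vk) l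
    (isPullback_morphismRestrict (c.π.app k) Vk) hl.flip
  haveI := hfj
  let fk' := pullback.snd fk (D.map φ)
  have hfk' : IsPullback (pullback.fst fk (D.map φ)) fk' fk (D.map φ) := IsPullback.of_hasPullback _ _
  let W : (D.obj k').Opens := D.map φ ⁻¹ᵁ Vk
  obtain ⟨l', hl'⟩ := RGBlowLib.isPullback_restrict_snd fk Vk (D.map φ) hfk'
  haveI : Flat (fk' ∣_ W) := by
    let e := hY.isoIsPullback _ _ (isPullback_morphismRestrict (D.map φ) Vk)
    have he : e.inv ≫ pY = D.map φ ∣_ Vk := hY.isoIsPullback_inv_fst _ _ _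
    have h : IsPullback l' ((fk' ∣_ W) ≫ e.inv) (fk ∣_ Vk) pY :=
      hl'.flip.of_iso (Iso.refl _) (Iso.refl _) e.symm (Iso.refl _) (by simp) (by simp; rfl) (by simp) (by simp [he])
    have h2 : (h.isoIsPullback _ _ hX).hom ≫ fj = (fk' ∣_ W) ≫ e.inv := h.isoIsPullback_hom_snd _ _ _
    have h3 : Flat ((fk' ∣_ W) ≫ e.inv) := by rw [← h2]; infer_instance
    exact (MorphismProperty.cancel_right_of_respectsIso @Flat _ e.inv).1 h3
  haveI : LocallyOfFinitePresentation (fk' ∣_ W) :=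
    IsZariskiLocalAtTarget.restrict (P := @LocallyOfFinitePresentation) inferInstance W
  have H := almostFlattened_noetherian fk' W (QuasiCompact.isCompact_preimage (f := D.map φ) _ Vk.2 hVkc)
  let gk' : X ⟶ pullback fk (D.map φ) :=
    pullback.lift gk (f ≫ c.π.app k') (by rw [Category.assoc, c.w φ]; exact hpk.w)
  have hpk' : IsPullback gk' f fk' (c.π.app k') := by
    refine IsPullback.of_right ?_ (pullback.lift_snd _ _ _) hfk'
    rw [pullback.lift_fst, c.w φ]
    exact hpk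
  have hV' : c.π.app k' ⁻¹ᵁ W = V := by
    rw [← hVk, ← c.w φ, Scheme.Hom.comp_preimage]
  exact hV' ▸ almostFlattened_baseChange H hpk'

end Groth.Agent.RGModLib
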