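import Groth.Agent.RGBlowLib.Dominate
import Groth.Agent.RGBlowLib.Killed
import Groth.Agent.ModPairLib.Cartier
import Groth.Agent.ModPairLib.Approx

/-!
# A modification and its base have a common admissible blow-up
-/

set_option autoImplicit false
set_option linter.style.haveILetI false
set_option backward.isDefEq.respectTransparency false
set_option maxHeartbeats 1000000

universe u

open CategoryTheory CategoryTheory.Limits AlgebraicGeometry

noncomputable section

namespace Groth.Agent.RGModLib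

variable {X' X : Scheme.{u}}

/-- Two maps which agree after a separated morphism are equal if their common image lies over the locus where
it is an isomorphism on a schematically dense open. -/
theorem eq_of_comp_eq (f : X' ⟶ X) [IsSeparated f] (U : X.Opens) [IsIso (f ∣_ U)] {T : Scheme.{u}} (a b : T ⟶ X')
    (h : a ≫ f = b ≫ f) (D : T.Opens) [IsSchemeTheoreticallyDominant D.ι] (hD : ∀ t ∈ D, (b ≫ f) t ∈ U) : a = b := by
  refine ModPairLib.hom_ext_dominant D.ι f h ?_
  have hr : ∀ m : T ⟶ X', m ≫ f = b ≫ f → Set.range (D.ι ≫ m) ⊆ Set.range (f ⁻¹ᵁ U).ι := fun m hm => by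
    rintro _ ⟨y, rfl⟩
    rw [Scheme.Opens.range_ι]
    show f ((D.ι ≫ m) y) ∈ U
    rw [← Scheme.Hom.comp_apply, Category.assoc, hm]
    exact hD _ y.2
  have hlift : IsOpenImmersion.lift (f ⁻¹ᵁ U).ι _ (hr a h) = IsOpenImmersion.lift (f ⁻¹ᵁ U).ι _ (hr b rfl) := by
    rw [← cancel_mono (f ∣_ U), ← cancel_mono U.ι, Category.assoc, Category.assoc, morphismRestrict_ι,
      IsOpenImmersion.lift_fac_assoc, IsOpenImmersion.lift_fac_assoc, Category.assoc, Category.assoc, h]
  rw [← IsOpenImmersion.lift_fac (f ⁻¹ᵁ U).ι _ (hr a h), hlift, IsOpenImmersion.lift_fac]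

theorem isAdmissibleFor_comap (f : X' ⟶ X) {U : X.Opens} {𝓘 : X.IdealSheafData} (h : BlowUp.IsAdmissibleFor U 𝓘) :
    BlowUp.IsAdmissibleFor (f ⁻¹ᵁ U) (𝓘.comap f) := by
  refine ⟨fun V => ?_, ?_⟩
  · exact ModPairLib.fg_comap 𝓘 f h.1 V
  · rw [Scheme.IdealSheafData.support_comap]
    exact Set.disjoint_left.2 fun x hx hxU => Set.disjoint_left.1 h.2 hx hxU

/-- A proper modification and its base have a common admissible blow-up. -/
theorem exists_common_blowUp [CompactSpace X] [QuasiSeparatedSpace X] (f : X' ⟶ X) [IsProper f] (U : X.Opens)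
    (hU : IsCompact (U : Set X)) [IsIso (f ∣_ U)] :
    ∃ (𝓘 : X.IdealSheafData) (Y : Scheme.{u}) (c' : Y ⟶ X'),
      BlowUp.IsBlowUp c' (𝓘.comap f) ∧ BlowUp.IsAdmissibleFor (f ⁻¹ᵁ U) (𝓘.comap f) ∧
      BlowUp.IsBlowUp (c' ≫ f) 𝓘 ∧ BlowUp.IsAdmissibleFor U 𝓘 := by
  obtain ⟨𝓘, S', b, hb, hadm, hex, H⟩ := RGBlowLib.exists_isIso_strict f U hU
  have hc := IsPullback.of_hasPullback f b
  obtain ⟨𝒥, hJ⟩ := RGBlowLib.exists_killed_of_fg ((𝓘.comap f).comap (pullback.fst f b)) (by
    rw [← Scheme.IdealSheafData.comap_comp, pullback.condition, Scheme.IdealSheafData.comap_comp]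
    exact ModPairLib.fg_of_isLP ((ModPairLib.isLP_of_cart hb.1).comap _))
  haveI := H _ _ _ hc 𝒥 hJ
  let h : S' ⟶ X' := inv (𝒥.subschemeι ≫ pullback.snd f b) ≫ 𝒥.subschemeι ≫ pullback.fst f b
  have hh : h ≫ f = b := by
    simp only [h, Category.assoc, pullback.condition]
    exact IsIso.inv_hom_id_assoc (𝒥.subschemeι ≫ pullback.snd f b) b
  refine ⟨𝓘, S', h, ⟨?_, fun T g hg => ?_⟩, isAdmissibleFor_comap f hadm, by rw [hh]; exact hb, hadm⟩
  · rw [← Scheme.IdealSheafData.comap_comp, hh]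
    exact hb.1
  · rw [← Scheme.IdealSheafData.comap_comp] at hg
    obtain ⟨k, hk, huniq⟩ := hb.2 T (g ≫ f) hg
    obtain ⟨-, hdom⟩ := S1571.result T _ hg
    haveI := hdom
    refine ⟨k, eq_of_comp_eq f U (k ≫ h) g (by rw [Category.assoc, hh]; exact hk)
      (𝓘.comap (g ≫ f)).support.compl (fun t ht => ?_), fun k' hk' => huniq k' ?_⟩
    · by_contra hn
      refine (show t ∉ (𝓘.comap (g ≫ f)).support from ht) ?_
      rw [Scheme.IdealSheafData.support_comap]
      exact hex _ hn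
    · show k' ≫ b = g ≫ f
      rw [← hh, ← Category.assoc, hk']

end Groth.Agent.RGModLib
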