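import Groth.Agent.RGModLib.ModRefine
import Groth.Agent.ModPairLib.Pair
import Groth.Agent.S18759
import Groth.Agent.S0591
import Groth.Agent.S2074
import Groth.Agent.S4805

/-!
# Descending admissible blow-ups of modulus pairs along limits
-/

set_option autoImplicit false
set_option linter.style.haveILetI false
set_option backward.isDefEq.respectTransparency false
set_option maxHeartbeats 1000000

universe u

open CategoryTheory CategoryTheory.Limits AlgebraicGeometry

noncomputable section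

namespace Groth.Agent.RGModLib

/-- A closed subscheme isomorphic to the base over a schematically dense open is the closure of that open. -/
theorem ker_eq_of_dense {Z P X : Scheme.{u}} (a : Z ⟶ P) (p : P ⟶ X) (q : Z ⟶ X) (hq : a ≫ p = q) (U : X.Opens)
    [IsIso (q ∣_ U)] [IsIso (p ∣_ U)] [IsSchemeTheoreticallyDominant (q ⁻¹ᵁ U).ι] :
    a.ker = (p ⁻¹ᵁ U).ι.ker := by
  subst hq
  haveI : IsIso ((a ∣_ (p ⁻¹ᵁ U)) ≫ (p ∣_ U)) := by rw [← morphismRestrict_comp]; infer_instance
  haveI : IsIso (a ∣_ (p ⁻¹ᵁ U)) := IsIso.of_isIso_comp_right _ (p ∣_ U)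
  haveI : IsSchemeTheoreticallyDominant (a ⁻¹ᵁ (p ⁻¹ᵁ U)).ι := ‹IsSchemeTheoreticallyDominant ((a ≫ p) ⁻¹ᵁ U).ι›
  have h1 : ((a ⁻¹ᵁ (p ⁻¹ᵁ U)).ι ≫ a).ker = a.ker := by
    rw [Scheme.Hom.ker_comp, (a ⁻¹ᵁ (p ⁻¹ᵁ U)).ι.ker_eq_bot, Scheme.IdealSheafData.map_bot]
  rw [← h1, ← morphismRestrict_ι, Scheme.Hom.ker_comp_of_isIso]

variable {I : Type u} [SmallCategory I] [IsCofiltered I] (D : I ⥤ Scheme.{u}) (c : Cone D) (hc : IsLimit c)
  [∀ (i j : I) (t : i ⟶ j), IsAffineHom (D.map t)]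
  [∀ i, CompactSpace (D.obj i)] [∀ i, QuasiSeparatedSpace (D.obj i)]

include hc in
/-- A stage of descent for a morphism of finite presentation which is proper and iso over an open from a stage. -/
theorem exists_stage_proper_iso {P : Scheme.{u}} (p : P ⟶ c.pt) [LocallyOfFinitePresentation p] [IsProper p]
    (J : ∀ i, (D.obj i).IdealSheafData) (hJ : ∀ i, BlowUp.IsEffCartierIdeal (J i))
    (hmin : ∀ (i j : I) (t : i ⟶ j), ModPair.IsMinimal (J i) (J j) (D.map t))
    (IX : c.pt.IdealSheafData) (hIX : ∀ i, IX = (J i).comap (c.π.app i)) [IsIso (p ∣_ ModPair.interior IX)] :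
    ∃ (j : I) (Pj : Scheme.{u}) (pj : Pj ⟶ D.obj j) (g : P ⟶ Pj),
      IsPullback g p pj (c.π.app j) ∧ IsProper pj ∧ IsIso (pj ∣_ ModPair.interior (J j)) := by
  obtain ⟨i, Pi, pi, gi, hpif, hpiq, hpis, hpb⟩ := S0591.result D c hc P p
  haveI := hpif
  haveI := hpiq
  haveI := hpis
  haveI : CompactSpace Pi := QuasiCompact.compactSpace_of_compactSpace pi
  haveI : QuasiSeparatedSpace Pi := quasiSeparatedSpace_of_quasiSeparated pi
  obtain ⟨k, φ, Pk, Yk, fk, gk, pY, pX, hY, hX, hpr⟩ :=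
    S2074.result D c hc i pi (𝟙 (D.obj i)) p (𝟙 c.pt) (c.π.app i) gi (IsPullback.id_vert (c.π.app i)) hpb
  haveI := hpr
  haveI : IsIso gk := hY.isIso_snd_of_isIso
  have hkq : IsPullback pX (fk ≫ gk) pi (D.map φ) := by
    have h := hX.paste_vert hY
    rwa [Category.comp_id] at h
  haveI : IsProper (fk ≫ gk) := MorphismProperty.comp_mem (W := @IsProper) _ _ inferInstance inferInstance
  haveI : LocallyOfFinitePresentation (fk ≫ gk) := MorphismProperty.of_isPullback hkq hpif
  let pk : Pk ⟶ D.obj k := fk ≫ gk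
  let gp : P ⟶ Pk := hkq.lift gi (p ≫ c.π.app k) (by rw [Category.assoc, c.w φ]; exact hpb.w)
  have hpk : IsPullback gp p pk (c.π.app k) := by
    refine IsPullback.of_right ?_ (hkq.lift_snd _ _ _) hkq
    rw [hkq.lift_fst, c.w φ]
    exact hpb
  let Uk := ModPair.interior (J k)
  have hU : c.π.app k ⁻¹ᵁ Uk = ModPair.interior IX := by rw [hIX k, interior_comap]
  haveI : CompactSpace (Uk : Scheme.{u}) := isCompact_iff_compactSpace.1 (isCompact_interior (J k) (hJ k))
  haveI : QuasiSeparatedSpace (Uk : Scheme.{u}) := QuasiSeparatedSpace.of_isOpenEmbedding Uk.ι.isOpenEmbedding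
  haveI : LocallyOfFinitePresentation (pk ∣_ Uk) :=
    IsZariskiLocalAtTarget.restrict (P := @LocallyOfFinitePresentation) inferInstance Uk
  haveI : IsProper pk := inferInstanceAs (IsProper (fk ≫ gk))
  haveI : IsProper (pk ∣_ Uk) := IsZariskiLocalAtTarget.restrict (P := @IsProper) inferInstance Uk
  haveI : LocallyOfFinitePresentation ((pk ∣_ Uk) ≫ Uk.ι) := inferInstance
  haveI : QuasiCompact ((pk ∣_ Uk) ≫ Uk.ι) := inferInstance
  haveI : QuasiSeparated ((pk ∣_ Uk) ≫ Uk.ι) := inferInstance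
  obtain ⟨l, hl⟩ := RGBlowLib.isPullback_restrict_snd pk Uk (c.π.app k) hpk
  haveI : IsIso (p ∣_ (c.π.app k ⁻¹ᵁ Uk)) := by rw [hU]; infer_instance
  obtain ⟨j, ψ, Xj, Yj, fj, gj, qY, qX, hY', hX', hiso⟩ := S4805.result D c hc k (pk ∣_ Uk) Uk.ι
    (p ∣_ (c.π.app k ⁻¹ᵁ Uk)) (c.π.app k ⁻¹ᵁ Uk).ι (c.π.app k ∣_ Uk) l
    (isPullback_morphismRestrict (c.π.app k) Uk) hl.flip
  haveI := hiso
  let pj := pullback.snd pk (D.map ψ)
  have hpj : IsPullback (pullback.fst pk (D.map ψ)) pj pk (D.map ψ) := IsPullback.of_hasPullback _ _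
  haveI : IsProper pj := MorphismProperty.pullback_snd (P := @IsProper) _ _ inferInstance
  let W : (D.obj j).Opens := D.map ψ ⁻¹ᵁ Uk
  obtain ⟨l', hl'⟩ := RGBlowLib.isPullback_restrict_snd pk Uk (D.map ψ) hpj
  have hWiso : IsIso (pj ∣_ W) := by
    let e := hY'.isoIsPullback _ _ (isPullback_morphismRestrict (D.map ψ) Uk)
    have he : e.inv ≫ qY = D.map ψ ∣_ Uk := hY'.isoIsPullback_inv_fst _ _ _
    have h : IsPullback l' ((pj ∣_ W) ≫ e.inv) (pk ∣_ Uk) qY :=
      hl'.flip.of_iso (Iso.refl _) (Iso.refl _) e.symm (Iso.refl _) (by simp) (by simp; rfl) (by simp) (by simp [he])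
    have h2 : (h.isoIsPullback _ _ hX').hom ≫ fj = (pj ∣_ W) ≫ e.inv := h.isoIsPullback_hom_snd _ _ _
    haveI : IsIso ((pj ∣_ W) ≫ e.inv) := by rw [← h2]; infer_instance
    exact IsIso.of_isIso_comp_right (pj ∣_ W) e.inv
  let gq : P ⟶ pullback pk (D.map ψ) :=
    pullback.lift gp (p ≫ c.π.app j) (by rw [Category.assoc, c.w ψ]; exact hpk.w)
  refine ⟨j, _, pj, gq, ?_, inferInstance, ?_⟩
  · refine IsPullback.of_right ?_ (pullback.lift_snd _ _ _) hpj
    rw [pullback.lift_fst, c.w ψ]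
    exact hpk
  · rw [show J j = (J k).comap (D.map ψ) from hmin j k ψ, interior_comap]
    exact hWiso

include hc in
/-- An admissible blow-up of a limit modulus pair comes from a stage. -/
theorem exists_descend_admBlowup
    (J : ∀ i, (D.obj i).IdealSheafData) (hJ : ∀ i, BlowUp.IsEffCartierIdeal (J i))
    (hmin : ∀ (i j : I) (t : i ⟶ j), ModPair.IsMinimal (J i) (J j) (D.map t))
    (IX : c.pt.IdealSheafData) (hIX : ∀ i, IX = (J i).comap (c.π.app i))
    (hX : BlowUp.IsEffCartierIdeal IX)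
    {Y : Scheme.{u}} (s : Y ⟶ c.pt) (hY : BlowUp.IsEffCartierIdeal (IX.comap s))
    (hs : ModPair.IsAdmBlowup (IX.comap s) IX s) :
    ∃ (i : I) (Yi : Scheme.{u}) (IYi : Yi.IdealSheafData) (si : Yi ⟶ D.obj i),
      BlowUp.IsEffCartierIdeal IYi ∧ ModPair.IsAdmBlowup IYi (J i) si ∧
        ∃ e : Y ≅ ModPair.mprod (c.π.app i) si IX IYi,
          e.hom ≫ ModPair.mprodι (c.π.app i) si IX IYi ≫ pullback.fst (c.π.app i) si = s := by
  obtain ⟨-, hsp, hsi⟩ := hs
  haveI := hsp
  haveI := hsi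
  haveI : CompactSpace c.pt := Scheme.compactSpace_of_isLimit D c hc
  obtain ⟨i₀⟩ := IsCofiltered.nonempty (C := I)
  haveI : IsAffineHom (c.π.app i₀) := isAffineHom_π_app D c hc i₀
  haveI : QuasiSeparatedSpace c.pt := quasiSeparatedSpace_of_quasiSeparated (c.π.app i₀)
  haveI : CompactSpace Y := QuasiCompact.compactSpace_of_compactSpace s
  haveI : QuasiSeparatedSpace Y := quasiSeparatedSpace_of_quasiSeparated s
  obtain ⟨A, _, _, DP, cP, hcP, eP, JP, hfp, -, hcl, hlp, hIY, -, -, -, hprop, hisoP⟩ :=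
    S18759.result (IX.comap s) IX hY hX s (le_refl _)
  obtain ⟨α⟩ := IsCofiltered.nonempty (C := A)
  let p := (DP.obj α).hom
  let a : Y ⟶ (DP.obj α).left := eP.inv.left ≫ (cP.π.app α).left
  haveI : IsIso eP.inv.left := inferInstance
  haveI : IsClosedImmersion (cP.π.app α).left := hcl α
  haveI : IsClosedImmersion a := inferInstanceAs (IsClosedImmersion (eP.inv.left ≫ (cP.π.app α).left))
  have hap : a ≫ p = s := by
    simp only [a, p, Category.assoc, Over.w]
    exact Over.w eP.inv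
  haveI : LocallyOfFinitePresentation p := (hfp α).1
  haveI : IsProper p := hprop inferInstance α
  haveI hpiso : IsIso (p ∣_ ModPair.interior IX) := hisoP rfl inferInstance α
  obtain ⟨j, Pj, pj, g, hg, hpjp, hpji⟩ := exists_stage_proper_iso D c hc p J hJ hmin IX hIX
  haveI := hpjp
  haveI := hpji
  let Uj := ModPair.interior (J j)
  obtain ⟨haff, -⟩ := S1571.result _ (J j) (hJ j)
  haveI := haff
  haveI : QuasiCompact Uj.ι := inferInstanceAs (QuasiCompact (Scheme.Opens.ι (X := D.obj j) (J j).support.compl))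
  let V := pj ⁻¹ᵁ Uj
  haveI : QuasiCompact V.ι :=
    MorphismProperty.of_isPullback (P := @QuasiCompact) (isPullback_morphismRestrict pj Uj) inferInstance
  let si := V.ι.imageι ≫ pj
  haveI : IsProper si := MorphismProperty.comp_mem (W := @IsProper) _ _ inferInstance inferInstance
  haveI : IsIso (si ∣_ Uj) := by
    haveI := ModPairLib.isIso_imageι_restrict V
    haveI : IsIso (V.ι.imageι ∣_ (pj ⁻¹ᵁ Uj)) := ‹IsIso (V.ι.imageι ∣_ V)›
    rw [morphismRestrict_comp]
    infer_instance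
  have hYi : BlowUp.IsEffCartierIdeal ((J j).comap si) := by
    haveI : IsSchemeTheoreticallyDominant V.ι.toImage := SchDenseLib.toImage_dominant V.ι
    refine BlowCompLib.isEffCartier_of_dense _ V.ι.toImage ((ModPairLib.isLP_of_cart (hJ j)).comap si) ?_
    rw [← Scheme.IdealSheafData.comap_comp, Scheme.Hom.toImage_imageι_assoc, Scheme.IdealSheafData.comap_comp,
      BlowCompLib.comap_eq_top ((J j).comap pj) V.ι (fun w h => by
        rw [Scheme.IdealSheafData.support_comap] at h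
        exact (show pj (V.ι w) ∈ Uj from w.2) h)]
    exact BlowCompLib.isEffCartier_top
  refine ⟨j, _, (J j).comap si, si, hYi, ⟨rfl, inferInstance, inferInstance⟩, ?_⟩
  -- the comparison
  let U := ModPair.interior IX
  have hUj : c.π.app j ⁻¹ᵁ Uj = U := by
    simp only [U, Uj]
    rw [hIX j, interior_comap]
  let M : pullback (c.π.app j) si ⟶ (DP.obj α).left :=
    hg.lift (pullback.snd _ _ ≫ V.ι.imageι) (pullback.fst _ _)
      (by rw [Category.assoc, show V.ι.imageι ≫ pj = si from rfl, pullback.condition])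
  have hMp : M ≫ p = pullback.fst (c.π.app j) si := hg.lift_snd _ _ _
  haveI : IsClosedImmersion M := by
    have h : IsPullback (pullback.snd (c.π.app j) si) M V.ι.imageι g := by
      refine IsPullback.of_bot ?_ (hg.lift_fst _ _ _).symm hg
      rw [hMp]
      exact (IsPullback.of_hasPullback (c.π.app j) si).flip
    exact MorphismProperty.of_isPullback (P := @IsClosedImmersion) h inferInstance
  let Q := ModPair.prodInterior (c.π.app j) si IX ((J j).comap si)
  have hQ : Q = pullback.fst (c.π.app j) si ⁻¹ᵁ U := by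
    refine le_antisymm inf_le_left fun z hz => ⟨hz, ?_⟩
    show pullback.snd (c.π.app j) si z ∈ ModPair.interior ((J j).comap si)
    rw [interior_comap]
    show si (pullback.snd (c.π.app j) si z) ∈ Uj
    rw [← Scheme.Hom.comp_apply, ← pullback.condition, Scheme.Hom.comp_apply]
    show pullback.fst (c.π.app j) si z ∈ c.π.app j ⁻¹ᵁ Uj
    rw [hUj]
    exact hz
  haveI : QuasiCompact Q.ι :=
    ModPairLib.quasiCompact_prodInterior _ _ _ _ (ModPairLib.isLP_of_cart hX) (ModPairLib.isLP_of_cart hYi)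
  haveI : IsIso (pullback.fst (c.π.app j) si ∣_ U) :=
    ModPairLib.isIso_restrict_baseChange (IsPullback.of_hasPullback (c.π.app j) si).flip Uj U hUj.ge
  haveI : IsIso (Q.ι.imageι ∣_ Q) := ModPairLib.isIso_imageι_restrict Q
  let q := ModPair.mprodι (c.π.app j) si IX ((J j).comap si) ≫ pullback.fst (c.π.app j) si
  haveI : IsIso (q ∣_ U) := by
    haveI : IsIso (Q.ι.imageι ∣_ (pullback.fst (c.π.app j) si ⁻¹ᵁ U)) := hQ ▸ ‹IsIso (Q.ι.imageι ∣_ Q)›
    simp only [q]
    rw [morphismRestrict_comp]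
    infer_instance
  haveI : IsSchemeTheoreticallyDominant (q ⁻¹ᵁ U).ι := by
    haveI : IsSchemeTheoreticallyDominant Q.ι.toImage := SchDenseLib.toImage_dominant Q.ι
    have hr : Set.range Q.ι.toImage ⊆ Set.range (q ⁻¹ᵁ U).ι := by
      rintro _ ⟨x, rfl⟩
      rw [Scheme.Opens.range_ι]
      show pullback.fst (c.π.app j) si (Q.ι.imageι (Q.ι.toImage x)) ∈ U
      rw [← Scheme.Hom.comp_apply Q.ι.toImage, Scheme.Hom.toImage_imageι]
      exact x.2.1
    exact S0449.dominant_of_fac (IsOpenImmersion.lift (q ⁻¹ᵁ U).ι _ hr) _ (IsOpenImmersion.lift_fac _ _ hr)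
  haveI : IsSchemeTheoreticallyDominant (s ⁻¹ᵁ U).ι := by
    obtain ⟨-, hdom⟩ := S1571.result Y (IX.comap s) hY
    rw [show ((IX.comap s).support.compl : Y.Opens) = s ⁻¹ᵁ U from interior_comap IX s] at hdom
    exact hdom
  let κ := ModPair.mprodι (c.π.app j) si IX ((J j).comap si) ≫ M
  have hκ : κ ≫ p = q := by simp only [κ, q, Category.assoc, hMp]
  haveI : IsClosedImmersion κ := inferInstanceAs (IsClosedImmersion (ModPair.mprodι (c.π.app j) si IX ((J j).comap si) ≫ M))
  have hker : a.ker = κ.ker := by rw [ker_eq_of_dense a p s hap U, ker_eq_of_dense κ p q hκ U]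
  let e : Y ≅ ModPair.mprod (c.π.app j) si IX ((J j).comap si) :=
    { hom := IsClosedImmersion.lift κ a hker.ge
      inv := IsClosedImmersion.lift a κ hker.le
      hom_inv_id := by rw [← cancel_mono a]; simp
      inv_hom_id := by rw [← cancel_mono κ]; simp }
  refine ⟨e, ?_⟩
  show IsClosedImmersion.lift κ a hker.ge ≫ q = s
  rw [← hκ, IsClosedImmersion.lift_fac_assoc, hap]

end Groth.Agent.RGModLib
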