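import Mathlib
import Groth.Agent.ModPairLib.Descend
import Groth.Agent.S0449
import Groth.Agent.SchDenseLib.Basic

/-!
# Scheme-theoretic closures of compatible opens in a cofiltered limit

If `d` is the limit of a system `E` with affine transition morphisms and `W k ⊆ E k` are compatible
retrocompact opens, then the schematic closure of their preimage in `d.pt` is the limit of their closures.
-/

set_option autoImplicit false
set_option linter.style.haveILetI false
set_option backward.isDefEq.respectTransparency false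
set_option maxHeartbeats 1000000

universe u

open CategoryTheory CategoryTheory.Limits AlgebraicGeometry

noncomputable section

namespace Groth.Agent.RGModLib

theorem ι_app_eq_zero_iff {X : Scheme.{u}} (U V O : X.Opens) (hO : O = U ⊓ V) (x : Γ(X, V)) :
    U.ι.app V x = 0 ↔ X.presheaf.map (homOfLE (hO.trans_le inf_le_right)).op x = 0 := by
  have e : U.ι ''ᵁ U.ι ⁻¹ᵁ V = O := by
    rw [Scheme.Hom.image_preimage_eq_opensRange_inf, Scheme.Opens.opensRange_ι, hO]
  subst e
  exact Iff.rfl

theorem app_res {X Y : Scheme.{u}} (f : X ⟶ Y) {O V : Y.Opens} (h : O ≤ V) (s : Γ(Y, V)) :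
    f.app O (Y.presheaf.map (homOfLE h).op s) =
      X.presheaf.map (homOfLE (f.preimage_mono h)).op (f.app V s) :=
  ConcreteCategory.congr_hom (f.naturality (homOfLE h).op) s

variable {K : Type u} [SmallCategory K] (E : K ⥤ Scheme.{u})
  (W : ∀ k, (E.obj k).Opens) (hW : ∀ ⦃k j : K⦄ (t : k ⟶ j), E.map t ⁻¹ᵁ W j = W k)

include hW in
theorem le_ker_closure_map {k j : K} (t : k ⟶ j) :
    (W j).ι.imageι.ker ≤ ((W k).ι.imageι ≫ E.map t).ker := by
  have h1 : ((W k).ι.imageι ≫ E.map t).ker = ((W k).ι ≫ E.map t).ker := by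
    rw [Scheme.Hom.ker_comp, Scheme.Hom.ker_comp, Scheme.IdealSheafData.ker_subschemeι]
  rw [h1, ← Scheme.Hom.resLE_comp_ι (E.map t) (hW t).ge, Scheme.IdealSheafData.ker_subschemeι]
  exact Scheme.Hom.le_ker_comp _ _

/-- The system of schematic closures. -/
def closureFunctor : K ⥤ Scheme.{u} where
  obj k := (W k).ι.image
  map {k j} t := IsClosedImmersion.lift (W j).ι.imageι ((W k).ι.imageι ≫ E.map t)
    (le_ker_closure_map E W hW t)
  map_id k := by
    rw [← cancel_mono (W k).ι.imageι, IsClosedImmersion.lift_fac]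
    simp
  map_comp {i j k} f g := by
    rw [← cancel_mono (W k).ι.imageι, IsClosedImmersion.lift_fac]
    simp

@[reassoc]
theorem closureFunctor_map_imageι {k j : K} (t : k ⟶ j) :
    (closureFunctor E W hW).map t ≫ (W j).ι.imageι = (W k).ι.imageι ≫ E.map t :=
  IsClosedImmersion.lift_fac _ _ _

theorem isAffineHom_closureFunctor_map {k j : K} (t : k ⟶ j) [IsAffineHom (E.map t)] :
    IsAffineHom ((closureFunctor E W hW).map t) := by
  haveI : IsAffineHom ((closureFunctor E W hW).map t ≫ (W j).ι.imageι) := by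
    rw [closureFunctor_map_imageι]
    infer_instance
  exact IsAffineHom.of_comp ((closureFunctor E W hW).map t) (W j).ι.imageι

include hW in
/-- Transition morphisms of the closures are dominant if those of the opens are. -/
theorem dominant_closureFunctor_map {k j : K} (t : k ⟶ j) [QuasiCompact (W j).ι]
    [IsSchemeTheoreticallyDominant ((E.map t).resLE (W j) (W k) (hW t).ge)] :
    IsSchemeTheoreticallyDominant ((closureFunctor E W hW).map t) := by
  haveI : IsSchemeTheoreticallyDominant (W j).ι.toImage := SchDenseLib.toImage_dominant (W j).ι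
  haveI : IsSchemeTheoreticallyDominant ((E.map t).resLE (W j) (W k) (hW t).ge ≫ (W j).ι.toImage) :=
    inferInstance
  refine S0449.dominant_of_fac (j := (E.map t).resLE (W j) (W k) (hW t).ge ≫ (W j).ι.toImage)
    (W k).ι.toImage _ ?_
  rw [← cancel_mono (W j).ι.imageι]
  simp only [Category.assoc, closureFunctor_map_imageι, Scheme.Hom.toImage_imageι,
    Scheme.Hom.toImage_imageι_assoc]
  exact ((E.map t).resLE_comp_ι (hW t).ge).symm

variable (d : Cone E) (hd : IsLimit d) (U : d.pt.Opens) (hU : ∀ k, d.π.app k ⁻¹ᵁ W k = U)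

include hU in
theorem le_ker_closure_π (k : K) : (W k).ι.imageι.ker ≤ (U.ι.imageι ≫ d.π.app k).ker := by
  have h1 : (U.ι.imageι ≫ d.π.app k).ker = (U.ι ≫ d.π.app k).ker := by
    rw [Scheme.Hom.ker_comp, Scheme.Hom.ker_comp, Scheme.IdealSheafData.ker_subschemeι]
  rw [h1, ← Scheme.Hom.resLE_comp_ι (d.π.app k) (hU k).ge, Scheme.IdealSheafData.ker_subschemeι]
  exact Scheme.Hom.le_ker_comp _ _

/-- The closure of the limit open as a cone over the closures. -/
def closureCone : Cone (closureFunctor E W hW) where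
  pt := U.ι.image
  π :=
    { app := fun k => IsClosedImmersion.lift (W k).ι.imageι (U.ι.imageι ≫ d.π.app k)
        (le_ker_closure_π E W d U hU k)
      naturality := fun k j t => (Category.id_comp _).trans ((cancel_mono (W j).ι.imageι).mp (by
        rw [Category.assoc, closureFunctor_map_imageι, IsClosedImmersion.lift_fac,
          IsClosedImmersion.lift_fac_assoc, Category.assoc, d.w])) }

@[reassoc]
theorem closureCone_π_imageι (k : K) :
    (closureCone E W hW d U hU).π.app k ≫ (W k).ι.imageι = U.ι.imageι ≫ d.π.app k :=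
  IsClosedImmersion.lift_fac _ _ _

variable [IsCofiltered K] [∀ {i j} (f : i ⟶ j), IsAffineHom (E.map f)]

include hW hd hU in
/-- The key inclusion: what lies in all the closures lies in the closure. -/
theorem ker_le_of_forall [∀ k, QuasiSeparatedSpace (E.obj k)] [∀ k, QuasiCompact (W k).ι]
    {T : Scheme.{u}} (w : T ⟶ d.pt) (h : ∀ k, (W k).ι.ker ≤ (w ≫ d.π.app k).ker) : U.ι.ker ≤ w.ker := by
  have key : ∀ (j : K) (Vj : (E.obj j).Opens) (hVj : IsAffineOpen Vj) (V : d.pt.Opens)
      (e : V = d.π.app j ⁻¹ᵁ Vj) (sj : Γ(E.obj j, Vj)),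
      U.ι.app V ((d.π.app j).appLE Vj V e.le sj) = 0 → w.app V ((d.π.app j).appLE Vj V e.le sj) = 0 := by
    intro j Vj hVj V e sj hs
    subst e
    rw [← Scheme.Hom.app_eq_appLE] at hs ⊢
    let O : (E.obj j).Opens := W j ⊓ Vj
    have hOc : IsCompact (O : Set (E.obj j)) := by
      have h1 := ((W j).ι.isCompact_preimage (hVj.isCompact)).image (W j).ι.continuous
      convert h1 using 1
      show ((W j : Set (E.obj j)) ∩ Vj) = (W j).ι '' ((W j).ι ⁻¹' Vj)
      rw [Set.image_preimage_eq_inter_range, Scheme.Opens.range_ι, Set.inter_comm]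
    let s' : Γ(E.obj j, O) := (E.obj j).presheaf.map (homOfLE inf_le_right).op sj
    have hs' : (d.π.app j).app O s' = 0 := by
      have h1 := (ι_app_eq_zero_iff U (d.π.app j ⁻¹ᵁ Vj) (d.π.app j ⁻¹ᵁ O) (by rw [← hU j]; rfl) _).mp hs
      simp only [s']
      rw [app_res]
      exact h1
    obtain ⟨m, t, hm⟩ := exists_app_map_eq_zero_of_isLimit E d hd hOc s' hs'
    let Vm : (E.obj m).affineOpens := ⟨E.map t ⁻¹ᵁ Vj, hVj.preimage _⟩
    let sm : Γ(E.obj m, Vm.1) := (E.map t).app Vj sj
    have hsm : (W m).ι.app Vm.1 sm = 0 := by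
      refine (ι_app_eq_zero_iff (W m) Vm.1 (E.map t ⁻¹ᵁ O) (by rw [← hW t]; rfl) _).mpr ?_
      simp only [s'] at hm
      rw [app_res] at hm
      exact hm
    have hmem : sm ∈ (W m).ι.ker.ideal Vm := by
      rw [Scheme.Hom.ker_apply]
      exact hsm
    have h2 : (w ≫ d.π.app m).app Vm.1 sm = 0 :=
      RingHom.mem_ker.mp ((w ≫ d.π.app m).ideal_ker_le Vm (h m Vm hmem))
    have h3 : (w ≫ d.π.app j).app Vj sj = 0 := by
      have e1 : w ≫ d.π.app j = (w ≫ d.π.app m) ≫ E.map t := by rw [Category.assoc, d.w]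
      have h4 : ∀ f : T ⟶ E.obj j, f = w ≫ d.π.app j → f.app Vj sj = 0 → (w ≫ d.π.app j).app Vj sj = 0 :=
        fun f hf hf' => by cases hf; exact hf'
      refine h4 _ e1.symm ?_
      rw [Scheme.Hom.comp_app]
      exact h2
    rw [Scheme.Hom.comp_app] at h3
    exact h3
  refine Scheme.IdealSheafData.le_ofIdeals_iff.mpr fun V s hs => RingHom.mem_ker.mpr ?_
  have hs' : U.ι.app V.1 s = 0 := RingHom.mem_ker.mp (U.ι.ideal_ker_le V hs)
  obtain ⟨k, Vk, hVk, hV⟩ := exists_isAffineOpen_preimage_eq E d hd V.1 V.2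
  obtain ⟨j, t, e, sj, hsj⟩ := ModPairLib.exists_section_stage E d hd k hVk
    (d.pt.presheaf.map (eqToHom hV).op s)
  have hVj : V.1 = d.π.app j ⁻¹ᵁ (E.map t ⁻¹ᵁ Vk) := by
    rw [← Scheme.Hom.comp_preimage, d.w, hV]
  have hseq : s = (d.π.app j).appLE (E.map t ⁻¹ᵁ Vk) V.1 hVj.le sj := by
    have h1 := congrArg (d.pt.presheaf.map (eqToHom hV.symm).op).hom hsj
    have h2 : (d.pt.presheaf.map (eqToHom hV.symm).op).hom
        (((d.π.app j).appLE (E.map t ⁻¹ᵁ Vk) (d.π.app k ⁻¹ᵁ Vk) e).hom sj) =
          (d.π.app j).appLE (E.map t ⁻¹ᵁ Vk) V.1 hVj.le sj :=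
      ConcreteCategory.congr_hom (Scheme.Hom.appLE_map (d.π.app j) e (eqToHom hV.symm).op) sj
    rw [← h2, h1]
    change s = ((d.pt.presheaf.map (eqToHom hV).op) ≫ d.pt.presheaf.map (eqToHom hV.symm).op).hom s
    rw [← Functor.map_comp, ← op_comp, eqToHom_trans, eqToHom_refl, op_id, CategoryTheory.Functor.map_id]
    rfl
  rw [hseq] at hs' ⊢
  exact key j _ (hVk.preimage _) V.1 hVj sj hs'

include hd in
/-- The closure of the limit open is the limit of the closures. -/
theorem nonempty_isLimit_closureCone [∀ k, QuasiSeparatedSpace (E.obj k)] [∀ k, QuasiCompact (W k).ι] :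
    Nonempty (IsLimit (closureCone E W hW d U hU)) := by
  have hex : ∀ s : Cone (closureFunctor E W hW), ∃ l : s.pt ⟶ U.ι.image,
      ∀ k, l ≫ (closureCone E W hW d U hU).π.app k = s.π.app k := fun s => by
    let cs : Cone E :=
      { pt := s.pt
        π :=
          { app := fun k => s.π.app k ≫ (W k).ι.imageι
            naturality := fun k j t => by
              show 𝟙 _ ≫ _ = _
              rw [Category.id_comp, Category.assoc, ← closureFunctor_map_imageι E W hW t, ← Category.assoc,
                s.w t] } }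
    have hker : U.ι.imageι.ker ≤ (hd.lift cs).ker := by
      rw [Scheme.IdealSheafData.ker_subschemeι]
      refine ker_le_of_forall E W hW d hd U hU _ fun k => ?_
      rw [hd.fac cs k]
      refine le_trans ?_ (Scheme.Hom.le_ker_comp _ _)
      rw [Scheme.IdealSheafData.ker_subschemeι]
    refine ⟨IsClosedImmersion.lift U.ι.imageι (hd.lift cs) hker, fun k => (cancel_mono (W k).ι.imageι).mp ?_⟩
    refine (Category.assoc _ _ _).trans ?_
    refine (congrArg (fun q => IsClosedImmersion.lift U.ι.imageι (hd.lift cs) hker ≫ q)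
      (closureCone_π_imageι E W hW d U hU k)).trans ?_
    rw [IsClosedImmersion.lift_fac_assoc]
    exact hd.fac cs k
  choose l hl using hex
  refine ⟨⟨l, hl, fun s m hm => (cancel_mono U.ι.imageι).mp (hd.hom_ext fun k => ?_)⟩⟩
  have e : ∀ q : s.pt ⟶ U.ι.image, (q ≫ (closureCone E W hW d U hU).π.app k) ≫ (W k).ι.imageι =
      (q ≫ U.ι.imageι) ≫ d.π.app k := fun q =>
    (Category.assoc _ _ _).trans ((congrArg (fun r => q ≫ r) (closureCone_π_imageι E W hW d U hU k)).trans
      (Category.assoc _ _ _).symm)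
  exact (e m).symm.trans ((congrArg (· ≫ (W k).ι.imageι) ((hm k).trans (hl s k).symm)).trans (e (l s)))

end Groth.Agent.RGModLib
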