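import Mathlib
import Groth.Agent.RGModLib.LocClosure
import Groth.Agent.ModPairLib.Calculus
import Groth.Agent.S18745

/-!
# Base change of an admissible blow-up along a limit system of modulus pairs

For an admissible blow-up `si : T ⟶ F i` of a stage, the ambient products `mprod (F k) si` form a cofiltered
system with affine minimal transition morphisms whose limit is `mprod (π i) si`.
-/

set_option autoImplicit false
set_option linter.style.haveILetI false
set_option linter.unusedSectionVars false
set_option backward.isDefEq.respectTransparency false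
set_option maxHeartbeats 1000000

universe u

open CategoryTheory CategoryTheory.Limits AlgebraicGeometry

noncomputable section

namespace Groth.Agent.RGModLib

/-- Proper, schematically dominant morphisms (more generally surjective ones) can be cancelled on the left. -/
theorem hom_ext_of_surjective_dominant {Z' Z Y : Scheme.{u}} (t : Z' ⟶ Z) [Surjective t] [QuasiCompact t]
    [IsSchemeTheoreticallyDominant t] (f g : Z ⟶ Y) (h : t ≫ f = t ≫ g) : f = g := by
  have hb : ∀ z : Z, f z = g z := fun z => by
    obtain ⟨z', rfl⟩ := t.surjective z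
    rw [← Scheme.Hom.comp_apply, h, Scheme.Hom.comp_apply]
  refine (Z.openCoverOfIsOpenCover (fun y : Y.affineOpens => f ⁻¹ᵁ y.1) ?_).hom_ext f g fun V => ?_
  · exact top_le_iff.mp fun z _ => by
      obtain ⟨_, ⟨W, hW, rfl⟩, hzW, -⟩ :=
        Y.isBasis_affineOpens.exists_subset_of_mem_open (Set.mem_univ (f z)) isOpen_univ
      exact TopologicalSpace.Opens.mem_iSup.mpr ⟨⟨W, hW⟩, hzW⟩
  · show (f ⁻¹ᵁ V.1).ι ≫ f = (f ⁻¹ᵁ V.1).ι ≫ g
    haveI : IsAffine V.1.toScheme := V.2
    have hg : f ⁻¹ᵁ V.1 ≤ g ⁻¹ᵁ V.1 := fun z hz => show g z ∈ V.1 from hb z ▸ hz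
    rw [← Scheme.Hom.resLE_comp_ι f le_rfl, ← Scheme.Hom.resLE_comp_ι g hg]
    congr 1
    haveI : IsSchemeTheoreticallyDominant (t ∣_ (f ⁻¹ᵁ V.1)) :=
      IsSchemeTheoreticallyDominant.of_isPullback (isPullback_morphismRestrict t (f ⁻¹ᵁ V.1)).flip
    haveI : QuasiCompact (t ∣_ (f ⁻¹ᵁ V.1)) :=
      MorphismProperty.of_isPullback (P := @QuasiCompact) (isPullback_morphismRestrict t (f ⁻¹ᵁ V.1)).flip
        inferInstance
    refine ext_of_isAffine (CommRingCat.hom_ext (RingHom.ext fun x => (t ∣_ (f ⁻¹ᵁ V.1)).app_injective ⊤ ?_))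
    have h1 : (t ∣_ (f ⁻¹ᵁ V.1)) ≫ f.resLE V.1 (f ⁻¹ᵁ V.1) le_rfl =
        (t ∣_ (f ⁻¹ᵁ V.1)) ≫ g.resLE V.1 (f ⁻¹ᵁ V.1) hg := by
      rw [← cancel_mono V.1.ι]
      simp only [Category.assoc, Scheme.Hom.resLE_comp_ι, morphismRestrict_ι_assoc, h]
    exact congrArg (fun q => q.appTop x) h1

section Basic

variable {X B T : Scheme.{u}} {IB : B.IdealSheafData} {IT : T.IdealSheafData}

theorem dominant_admBlowup (hB : BlowUp.IsEffCartierIdeal IB) {s : T ⟶ B} (hs : ModPair.IsAdmBlowup IT IB s) :
    IsSchemeTheoreticallyDominant s := by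
  haveI := hs.2.2
  haveI := ModPairLib.dominant_interior hB
  refine S0449.dominant_of_fac (j := (ModPair.interior IB).ι)
    (inv (s ∣_ ModPair.interior IB) ≫ (s ⁻¹ᵁ ModPair.interior IB).ι) s ?_
  rw [Category.assoc, ← morphismRestrict_ι, IsIso.inv_hom_id_assoc]

theorem surjective_admBlowup (hB : BlowUp.IsEffCartierIdeal IB) {s : T ⟶ B} (hs : ModPair.IsAdmBlowup IT IB s) :
    Surjective s := by
  haveI := hs.2.1
  haveI := dominant_admBlowup hB hs
  haveI : IsDominant s := inferInstance
  refine ⟨Set.range_eq_univ.mp ?_⟩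
  rw [← s.isClosedMap.isClosed_range.closure_eq]
  exact s.denseRange.closure_eq

theorem comap_eq_of_w {P : Scheme.{u}} {f : X ⟶ B} {si : T ⟶ B} {I : X.IdealSheafData} (hI : I = IB.comap f)
    (hT : IT = IB.comap si) {a : P ⟶ X} {b : P ⟶ T} (w : a ≫ f = b ≫ si) : I.comap a = IT.comap b := by
  rw [hI, hT, ← Scheme.IdealSheafData.comap_comp, ← Scheme.IdealSheafData.comap_comp, w]

theorem prodInterior_eq_fst {f : X ⟶ B} {si : T ⟶ B} {I : X.IdealSheafData} (hI : I = IB.comap f)
    (hT : IT = IB.comap si) :
    ModPair.prodInterior f si I IT = pullback.fst f si ⁻¹ᵁ ModPair.interior I := by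
  have h : pullback.snd f si ⁻¹ᵁ ModPair.interior IT = pullback.fst f si ⁻¹ᵁ ModPair.interior I := by
    rw [← ModPairLib.interior_comap, ← ModPairLib.interior_comap, comap_eq_of_w hI hT pullback.condition]
  rw [ModPair.prodInterior, h, inf_idem]

theorem isIso_fst_restrict {f : X ⟶ B} {si : T ⟶ B} {I : X.IdealSheafData} (hI : I = IB.comap f)
    (hs : ModPair.IsAdmBlowup IT IB si) : IsIso (pullback.fst f si ∣_ ModPair.interior I) := by
  haveI := hs.2.2
  exact ModPairLib.isIso_restrict_baseChange (IsPullback.of_hasPullback f si).flip (ModPair.interior IB) _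
    (by rw [hI, ModPairLib.interior_comap])

/-- Base change of an admissible blow-up along a minimal morphism. -/
theorem isAdmBlowup_mprod_fst {f : X ⟶ B} {si : T ⟶ B} {I : X.IdealSheafData} (hX : BlowUp.IsEffCartierIdeal I)
    (hI : I = IB.comap f) (hTc : BlowUp.IsEffCartierIdeal IT) (hs : ModPair.IsAdmBlowup IT IB si) :
    BlowUp.IsEffCartierIdeal (I.comap (ModPair.mprodι f si I IT ≫ pullback.fst f si)) ∧
      ModPair.IsAdmBlowup (I.comap (ModPair.mprodι f si I IT ≫ pullback.fst f si)) I
        (ModPair.mprodι f si I IT ≫ pullback.fst f si) := by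
  haveI := hs.2.1
  haveI : QuasiCompact (ModPair.prodInterior f si I IT).ι :=
    ModPairLib.quasiCompact_prodInterior _ _ _ _ (ModPairLib.isLP_of_cart hX) (ModPairLib.isLP_of_cart hTc)
  refine ⟨ModPairLib.cart_mA f si I IT (ModPairLib.isLP_of_cart hX) (ModPairLib.isLP_of_cart hTc), rfl,
    inferInstance, ?_⟩
  haveI := isIso_fst_restrict hI hs
  haveI : IsIso (ModPair.mprodι f si I IT ∣_ (pullback.fst f si ⁻¹ᵁ ModPair.interior I)) := by
    rw [← prodInterior_eq_fst hI hs.1]
    exact ModPairLib.isIso_imageι_restrict _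
  rw [morphismRestrict_comp]
  infer_instance

end Basic

variable {I : Type u} [SmallCategory I] (F : I ⥤ Scheme.{u}) (J : ∀ i, (F.obj i).IdealSheafData)
  {i : I} {T : Scheme.{u}} (si : T ⟶ F.obj i) (IT : T.IdealSheafData)

/-- The pullbacks of `si` along the transition morphisms into stage `i`. -/
def stageFun : Over i ⥤ Scheme.{u} := Over.post F ⋙ Over.pullback si ⋙ Over.forget T

@[reassoc]
theorem stageFun_map_fst {k j : Over i} (t : k ⟶ j) :
    (stageFun F si).map t ≫ pullback.fst (F.map j.hom) si = pullback.fst (F.map k.hom) si ≫ F.map t.left :=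
  pullback.lift_fst _ _ _

@[reassoc]
theorem stageFun_map_snd {k j : Over i} (t : k ⟶ j) :
    (stageFun F si).map t ≫ pullback.snd (F.map j.hom) si = pullback.snd (F.map k.hom) si :=
  pullback.lift_snd _ _ _

theorem isPullback_stageFun_map {k j : Over i} (t : k ⟶ j) :
    IsPullback ((stageFun F si).map t) (pullback.fst (F.map k.hom) si) (pullback.fst (F.map j.hom) si)
      (F.map t.left) := by
  refine IsPullback.of_right ?_ (stageFun_map_fst F si t) (IsPullback.of_hasPullback (F.map j.hom) si).flip
  rw [stageFun_map_snd, ← Functor.map_comp, Over.w]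
  exact (IsPullback.of_hasPullback (F.map k.hom) si).flip

instance isAffineHom_stageFun_map [∀ {i j} (f : i ⟶ j), IsAffineHom (F.map f)] {k j : Over i} (t : k ⟶ j) :
    IsAffineHom ((stageFun F si).map t) :=
  MorphismProperty.of_isPullback (P := @IsAffineHom) (isPullback_stageFun_map F si t).flip inferInstance

/-- The opens of `stageFun` lying over the interiors. -/
abbrev stageInt (k : Over i) : ((stageFun F si).obj k).Opens :=
  ModPair.prodInterior (F.map k.hom) si (J k.left) IT

section

variable (hmin : ∀ (i j : I) (t : i ⟶ j), ModPair.IsMinimal (J i) (J j) (F.map t))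

include hmin in
theorem stageInt_preimage ⦃k j : Over i⦄ (t : k ⟶ j) :
    (stageFun F si).map t ⁻¹ᵁ stageInt F J si IT j = stageInt F J si IT k := by
  have hk : ModPair.interior (J k.left) = F.map t.left ⁻¹ᵁ ModPair.interior (J j.left) := by
    rw [show J k.left = (J j.left).comap (F.map t.left) from hmin _ _ _, ModPairLib.interior_comap]
  show (stageFun F si).map t ⁻¹ᵁ (_ ⊓ _) = _ ⊓ _
  rw [Scheme.Hom.preimage_inf, ← Scheme.Hom.comp_preimage, ← Scheme.Hom.comp_preimage, stageFun_map_fst,
    stageFun_map_snd, Scheme.Hom.comp_preimage, ← hk]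

/-- The system of ambient products `mprod (F k) si`. -/
def prodSystem : Over i ⥤ Scheme.{u} :=
  closureFunctor (stageFun F si) (stageInt F J si IT) (stageInt_preimage F J si IT hmin)

/-- The projection to the stage. -/
abbrev prodFst (k : Over i) : (prodSystem F J si IT hmin).obj k ⟶ F.obj k.left :=
  ModPair.mprodι (F.map k.hom) si (J k.left) IT ≫ pullback.fst (F.map k.hom) si

/-- The projection to `T`. -/
abbrev prodSnd (k : Over i) : (prodSystem F J si IT hmin).obj k ⟶ T :=
  ModPair.mprodι (F.map k.hom) si (J k.left) IT ≫ pullback.snd (F.map k.hom) si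

/-- The modulus on `prodSystem`. -/
abbrev prodMod (k : Over i) : ((prodSystem F J si IT hmin).obj k).IdealSheafData :=
  (J k.left).comap (prodFst F J si IT hmin k)

theorem prodSystem_map_fst {k j : Over i} (t : k ⟶ j) :
    (prodSystem F J si IT hmin).map t ≫ prodFst F J si IT hmin j = prodFst F J si IT hmin k ≫ F.map t.left := by
  refine (Category.assoc _ _ _).symm.trans ?_
  refine (congrArg (· ≫ pullback.fst (F.map j.hom) si)
    (closureFunctor_map_imageι (stageFun F si) (stageInt F J si IT) (stageInt_preimage F J si IT hmin) t)).trans ?_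
  refine (Category.assoc _ _ _).trans ?_
  exact (congrArg (fun q => ModPair.mprodι (F.map k.hom) si (J k.left) IT ≫ q) (stageFun_map_fst F si t)).trans
    (Category.assoc _ _ _).symm

theorem prodSystem_map_snd {k j : Over i} (t : k ⟶ j) :
    (prodSystem F J si IT hmin).map t ≫ prodSnd F J si IT hmin j = prodSnd F J si IT hmin k := by
  refine (Category.assoc _ _ _).symm.trans ?_
  refine (congrArg (· ≫ pullback.snd (F.map j.hom) si)
    (closureFunctor_map_imageι (stageFun F si) (stageInt F J si IT) (stageInt_preimage F J si IT hmin) t)).trans ?_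
  refine (Category.assoc _ _ _).trans ?_
  exact congrArg (fun q => ModPair.mprodι (F.map k.hom) si (J k.left) IT ≫ q) (stageFun_map_snd F si t)

variable (hs : ModPair.IsAdmBlowup IT (J i) si) (hT : BlowUp.IsEffCartierIdeal IT)
  (hJ : ∀ i, BlowUp.IsEffCartierIdeal (J i))

include hs hT hJ in
theorem prodSystem_adm (k : Over i) :
    BlowUp.IsEffCartierIdeal (prodMod F J si IT hmin k) ∧
      ModPair.IsAdmBlowup (prodMod F J si IT hmin k) (J k.left) (prodFst F J si IT hmin k) :=
  isAdmBlowup_mprod_fst (hJ _) (hmin _ _ _) hT hs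

include hs in
theorem prodMod_eq_snd (k : Over i) : prodMod F J si IT hmin k = IT.comap (prodSnd F J si IT hmin k) :=
  comap_eq_of_w (f := F.map k.hom) (hmin _ _ _) hs.1 (by simp only [Category.assoc, pullback.condition])

theorem prodMod_minimal {k j : Over i} (t : k ⟶ j) :
    prodMod F J si IT hmin k = (prodMod F J si IT hmin j).comap ((prodSystem F J si IT hmin).map t) :=
  comap_eq_of_w (hmin _ _ _) rfl (prodSystem_map_fst F J si IT hmin t).symm

theorem isAffineHom_prodSystem_map [∀ {i j} (f : i ⟶ j), IsAffineHom (F.map f)] {k j : Over i} (t : k ⟶ j) :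
    IsAffineHom ((prodSystem F J si IT hmin).map t) :=
  isAffineHom_closureFunctor_map _ _ _ t

include hs hT hJ in
theorem quasiCompact_stageInt (k : Over i) : QuasiCompact (stageInt F J si IT k).ι :=
  ModPairLib.quasiCompact_prodInterior _ _ _ _ (ModPairLib.isLP_of_cart (hJ _)) (ModPairLib.isLP_of_cart hT)

include hs hT hJ in
theorem dominant_prodSystem_map [∀ {i j} (f : i ⟶ j), IsAffineHom (F.map f)]
    (hd : ∀ (i j : I) (t : i ⟶ j), IsSchemeTheoreticallyDominant (F.map t)) {k j : Over i} (t : k ⟶ j) :
    IsSchemeTheoreticallyDominant ((prodSystem F J si IT hmin).map t) := by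
  haveI := hd _ _ t.left
  haveI := quasiCompact_stageInt F J si IT hs hT hJ j
  let Wj := stageInt F J si IT j
  haveI : IsOpenImmersion (Wj.ι ≫ pullback.fst (F.map j.hom) si) := by
    haveI := isIso_fst_restrict (f := F.map j.hom) (si := si) (hmin _ _ _) hs
    have hW : Wj = pullback.fst (F.map j.hom) si ⁻¹ᵁ ModPair.interior (J j.left) :=
      prodInterior_eq_fst (hmin _ _ _) hs.1
    rw [hW, ← morphismRestrict_ι]
    infer_instance
  have hp : IsPullback (((stageFun F si).map t).resLE Wj (stageInt F J si IT k) (stageInt_preimage F J si IT hmin t).ge)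
      (stageInt F J si IT k).ι Wj.ι ((stageFun F si).map t) :=
    IsOpenImmersion.isPullback _ _ _ _ (by simp) (by simp [stageInt_preimage F J si IT hmin t, Wj])
  have hp2 := hp.flip.paste_horiz (isPullback_stageFun_map F si t).flip
  haveI : QuasiCompact (F.map t.left) := inferInstance
  haveI : IsSchemeTheoreticallyDominant
      (((stageFun F si).map t).resLE Wj (stageInt F J si IT k) (stageInt_preimage F J si IT hmin t).ge) :=
    IsSchemeTheoreticallyDominant.of_isPullback hp2
  exact dominant_closureFunctor_map _ _ _ t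

section limit

variable [IsCofiltered I] (d : Cone F) (hd : IsLimit d) (IX : d.pt.IdealSheafData)
  (hIX : ∀ i, IX = (J i).comap (d.π.app i))

attribute [local instance] IsCofiltered.isConnected

/-- The pullback of `si` to the limit as a cone. -/
def stageCone : Cone (stageFun F si) := (Over.pullback si ⋙ Over.forget T).mapCone ((Over.conePost F i).obj d)

include hd in
theorem nonempty_isLimit_stageCone : Nonempty (IsLimit (stageCone F si d)) := by
  haveI : PreservesLimits (Over.pullback si) := (Over.mapPullbackAdj si).rightAdjoint_preservesLimits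
  haveI : IsCofiltered (Over i) := inferInstance
  exact ⟨isLimitOfPreserves (Over.pullback si ⋙ Over.forget T) (Over.isLimitConePost i hd)⟩

theorem stageCone_π_fst (k : Over i) :
    (stageCone F si d).π.app k ≫ pullback.fst (F.map k.hom) si = pullback.fst (d.π.app i) si ≫ d.π.app k.left :=
  pullback.lift_fst _ _ _

theorem stageCone_π_snd (k : Over i) :
    (stageCone F si d).π.app k ≫ pullback.snd (F.map k.hom) si = pullback.snd (d.π.app i) si :=
  pullback.lift_snd _ _ _

include hIX in
theorem stageCone_preimage (k : Over i) :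
    (stageCone F si d).π.app k ⁻¹ᵁ stageInt F J si IT k = ModPair.prodInterior (d.π.app i) si IX IT := by
  have hk : ModPair.interior IX = d.π.app k.left ⁻¹ᵁ ModPair.interior (J k.left) := by
    rw [hIX k.left, ModPairLib.interior_comap]
  show (stageCone F si d).π.app k ⁻¹ᵁ (_ ⊓ _) = _ ⊓ _
  rw [Scheme.Hom.preimage_inf, ← Scheme.Hom.comp_preimage, ← Scheme.Hom.comp_preimage, stageCone_π_fst,
    stageCone_π_snd, Scheme.Hom.comp_preimage, hk]

/-- The cone with point `mprod (π i) si`. -/
def prodCone : Cone (prodSystem F J si IT hmin) :=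
  closureCone (stageFun F si) (stageInt F J si IT) (stageInt_preimage F J si IT hmin) (stageCone F si d)
    (ModPair.prodInterior (d.π.app i) si IX IT) (stageCone_preimage F J si IT d IX hIX)

theorem prodCone_π_fst (k : Over i) :
    (prodCone F J si IT hmin d IX hIX).π.app k ≫ prodFst F J si IT hmin k =
      (ModPair.mprodι (d.π.app i) si IX IT ≫ pullback.fst (d.π.app i) si) ≫ d.π.app k.left := by
  refine (Category.assoc _ _ _).symm.trans ?_
  refine (congrArg (· ≫ pullback.fst (F.map k.hom) si)
    (closureCone_π_imageι (stageFun F si) (stageInt F J si IT) (stageInt_preimage F J si IT hmin)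
      (stageCone F si d) _ (stageCone_preimage F J si IT d IX hIX) k)).trans ?_
  refine (Category.assoc _ _ _).trans ?_
  exact (congrArg (fun q => ModPair.mprodι (d.π.app i) si IX IT ≫ q) (stageCone_π_fst F si d k)).trans
    (Category.assoc _ _ _).symm

theorem prodCone_π_snd (k : Over i) :
    (prodCone F J si IT hmin d IX hIX).π.app k ≫ prodSnd F J si IT hmin k =
      ModPair.mprodι (d.π.app i) si IX IT ≫ pullback.snd (d.π.app i) si := by
  refine (Category.assoc _ _ _).symm.trans ?_
  refine (congrArg (· ≫ pullback.snd (F.map k.hom) si)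
    (closureCone_π_imageι (stageFun F si) (stageInt F J si IT) (stageInt_preimage F J si IT hmin)
      (stageCone F si d) _ (stageCone_preimage F J si IT d IX hIX) k)).trans ?_
  refine (Category.assoc _ _ _).trans ?_
  exact congrArg (fun q => ModPair.mprodι (d.π.app i) si IX IT ≫ q) (stageCone_π_snd F si d k)

variable [∀ (i j : I) (f : i ⟶ j), IsAffineHom (F.map f)]
  [∀ i, CompactSpace (F.obj i)] [∀ i, QuasiSeparatedSpace (F.obj i)]

include hs in
theorem compactSpace_prodSystem (k : Over i) : CompactSpace ((prodSystem F J si IT hmin).obj k) := by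
  haveI := hs.2.1
  exact QuasiCompact.compactSpace_of_compactSpace (prodFst F J si IT hmin k)

include hs in
theorem quasiSeparatedSpace_prodSystem (k : Over i) :
    QuasiSeparatedSpace ((prodSystem F J si IT hmin).obj k) := by
  haveI := hs.2.1
  exact quasiSeparatedSpace_of_quasiSeparated (prodFst F J si IT hmin k)

include hs in
theorem quasiSeparatedSpace_stageFun (k : Over i) : QuasiSeparatedSpace ((stageFun F si).obj k) := by
  haveI := hs.2.1
  exact quasiSeparatedSpace_of_quasiSeparated (pullback.fst (F.map k.hom) si)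

include hd hs hT hJ in
theorem nonempty_isLimit_prodCone : Nonempty (IsLimit (prodCone F J si IT hmin d IX hIX)) := by
  haveI := quasiCompact_stageInt F J si IT hs hT hJ
  haveI := quasiSeparatedSpace_stageFun F J si IT hs
  haveI : ∀ {k j : Over i} (t : k ⟶ j), IsAffineHom ((stageFun F si).map t) := fun t =>
    MorphismProperty.of_isPullback (P := @IsAffineHom) (isPullback_stageFun_map F si t).flip inferInstance
  obtain ⟨hE⟩ := nonempty_isLimit_stageCone F si d hd
  exact nonempty_isLimit_closureCone _ _ _ _ hE _ _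

variable {B Y : Scheme.{u}} (σ : ∀ i, F.obj i ⟶ B) (hσ : ∀ ⦃k j : I⦄ (t : k ⟶ j), F.map t ≫ σ j = σ k)
  (y : Y ⟶ B)

include hd hs hT hJ hσ in
/-- Morphisms out of `mprod (π i) si` descend. -/
theorem exists_stage_hom [CompactSpace B] [QuasiSeparatedSpace B] [CompactSpace Y] [QuasiSeparatedSpace Y]
    [LocallyOfFiniteType y] (IY : Y.IdealSheafData) (hY : BlowUp.IsEffCartierIdeal IY)
    (h : (∀ (i j : I) (t : i ⟶ j), IsSchemeTheoreticallyDominant (F.map t)) ∨ LocallyOfFinitePresentation y)
    (a : ModPair.mprod (d.π.app i) si IX IT ⟶ Y)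
    (ha : a ≫ y = (ModPair.mprodι (d.π.app i) si IX IT ≫ pullback.fst (d.π.app i) si) ≫ d.π.app i ≫ σ i)
    (amb : ModPair.IsAmbient (IX.comap (ModPair.mprodι (d.π.app i) si IX IT ≫ pullback.fst (d.π.app i) si)) IY a) :
    ∃ (k : Over i) (ak : (prodSystem F J si IT hmin).obj k ⟶ Y),
      ModPair.IsAmbient (prodMod F J si IT hmin k) IY ak ∧
        ak ≫ y = prodFst F J si IT hmin k ≫ σ k.left ∧
        (prodCone F J si IT hmin d IX hIX).π.app k ≫ ak = a := by
  haveI : IsCofiltered (Over i) := inferInstance
  haveI := compactSpace_prodSystem F J si IT hmin hs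
  haveI := quasiSeparatedSpace_prodSystem F J si IT hmin hs
  let G : Over i ⥤ Over B := (prodSystem F J si IT hmin).toOver B
    (fun k => prodFst F J si IT hmin k ≫ σ k.left) (fun {k j} t => by
      rw [← Category.assoc, prodSystem_map_fst, Category.assoc, hσ])
  let q := ModPair.mprodι (d.π.app i) si IX IT ≫ pullback.fst (d.π.app i) si
  let cG : Cone G :=
    { pt := Over.mk (q ≫ d.π.app i ≫ σ i)
      π :=
        { app := fun k => Over.homMk ((prodCone F J si IT hmin d IX hIX).π.app k) (by
            refine (Category.assoc _ _ _).symm.trans ?_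
            refine (congrArg (· ≫ σ k.left) (prodCone_π_fst F J si IT hmin d IX hIX k)).trans ?_
            show (q ≫ d.π.app k.left) ≫ σ k.left = q ≫ d.π.app i ≫ σ i
            rw [← hσ k.hom, Category.assoc, ← Category.assoc (d.π.app k.left)]
            exact congrArg (fun r => q ≫ r ≫ σ i) (d.w k.hom))
          naturality := fun k j t => Over.OverMorphism.ext ((prodCone F J si IT hmin d IX hIX).π.naturality t) } }
  obtain ⟨hP⟩ := nonempty_isLimit_prodCone F J si IT hmin hs hT hJ d hd IX hIX
  have hG : IsLimit cG := isLimitOfReflects (Over.forget B) (IsLimit.ofIsoLimit hP (Cone.ext (Iso.refl _)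
    (fun k => by
      show _ = 𝟙 _ ≫ _
      rw [Category.id_comp]
      rfl)))
  haveI : ∀ (k j : Over i) (t : k ⟶ j), IsAffineHom (G.map t).left := fun k j t =>
    isAffineHom_prodSystem_map F J si IT hmin t
  haveI : ∀ k, CompactSpace (G.obj k).left := compactSpace_prodSystem F J si IT hmin hs
  haveI : ∀ k, QuasiSeparatedSpace (G.obj k).left := quasiSeparatedSpace_prodSystem F J si IT hmin hs
  haveI : CompactSpace (Over.mk y).left := ‹CompactSpace Y›
  haveI : QuasiSeparatedSpace (Over.mk y).left := ‹QuasiSeparatedSpace Y›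
  haveI : LocallyOfFiniteType (Over.mk y).hom := ‹LocallyOfFiniteType y›
  obtain ⟨k, φk, hk, hφk⟩ := S18745.result G cG hG (fun k => prodMod F J si IT hmin k)
    (fun k => (prodSystem_adm F J si IT hmin hs hT hJ k).1) (fun _ _ t => prodMod_minimal F J si IT hmin t)
    (IX.comap q) (fun k => comap_eq_of_w (hIX k.left) rfl (prodCone_π_fst F J si IT hmin d IX hIX k).symm)
    (Over.mk y) IY hY
    (h.imp_left fun h' k j t => dominant_prodSystem_map F J si IT hmin hs hT hJ h' t)
    (Over.homMk a ha) amb
  exact ⟨k, φk.left, hk, Over.w φk, congrArg CommaMorphism.left hφk⟩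

include hd hs hT hJ hσ hIX in
/-- Morphisms out of `T` which agree on `mprod (π i) si` agree at some stage. -/
theorem exists_stage_eq [LocallyOfFiniteType y] (a b : T ⟶ Y) (ha : a ≫ y = si ≫ σ i) (hb : b ≫ y = si ≫ σ i)
    (hab : (ModPair.mprodι (d.π.app i) si IX IT ≫ pullback.snd (d.π.app i) si) ≫ a =
      (ModPair.mprodι (d.π.app i) si IX IT ≫ pullback.snd (d.π.app i) si) ≫ b) :
    ∃ k : Over i, prodSnd F J si IT hmin k ≫ a = prodSnd F J si IT hmin k ≫ b := by
  haveI : IsCofiltered (Over i) := inferInstance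
  haveI := compactSpace_prodSystem F J si IT hmin hs
  haveI : ∀ {k j : Over i} (t : k ⟶ j), IsAffineHom ((prodSystem F J si IT hmin).map t) := fun t =>
    isAffineHom_prodSystem_map F J si IT hmin t
  obtain ⟨hP⟩ := nonempty_isLimit_prodCone F J si IT hmin hs hT hJ d hd IX hIX
  let k₀ : Over i := Over.mk (𝟙 i)
  have hstr : ∀ c : T ⟶ Y, c ≫ y = si ≫ σ i →
      (prodSnd F J si IT hmin k₀ ≫ c) ≫ y = prodFst F J si IT hmin k₀ ≫ σ k₀.left := fun c hc => by
    rw [Category.assoc, hc, ← hσ k₀.hom]
    simp only [Category.assoc, pullback.condition_assoc]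
  obtain ⟨k, t, hk⟩ := Scheme.exists_hom_comp_eq_comp_of_locallyOfFiniteType (prodSystem F J si IT hmin)
    { app := fun k => prodFst F J si IT hmin k ≫ σ k.left
      naturality := fun k j t => by
        show _ ≫ _ = _ ≫ 𝟙 B
        rw [Category.comp_id, ← Category.assoc, prodSystem_map_fst, Category.assoc, hσ] }
    y (prodCone F J si IT hmin d IX hIX) hP (i := k₀) (prodSnd F J si IT hmin k₀ ≫ a)
    (prodSnd F J si IT hmin k₀ ≫ b) (hstr a ha).symm (hstr b hb).symm
    ((Category.assoc _ _ _).symm.trans ((congrArg (· ≫ a) (prodCone_π_snd F J si IT hmin d IX hIX k₀)).trans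
      (hab.trans ((congrArg (· ≫ b) (prodCone_π_snd F J si IT hmin d IX hIX k₀)).symm.trans (Category.assoc _ _ _)))))
  refine ⟨k, ?_⟩
  have e : ∀ c : T ⟶ Y, (prodSystem F J si IT hmin).map t ≫ prodSnd F J si IT hmin k₀ ≫ c =
      prodSnd F J si IT hmin k ≫ c := fun c =>
    (Category.assoc _ _ _).symm.trans (congrArg (· ≫ c) (prodSystem_map_snd F J si IT hmin t))
  exact (e a).symm.trans (hk.trans (e b))

end limit

end

end Groth.Agent.RGModLib
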