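import Mathlib
import Groth.Agent.RGModLib.LocStage
import Groth.Agent.AffLim.Existence
import Groth.Agent.S18744
import Groth.Agent.S18746

/-!
# The localization at admissible blow-ups and limits of modulus pairs
-/

set_option autoImplicit false
set_option linter.style.haveILetI false
set_option linter.unusedSectionVars false
set_option backward.isDefEq.respectTransparency false
set_option maxHeartbeats 1000000

universe u

open CategoryTheory CategoryTheory.Limits AlgebraicGeometry ModPair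

noncomputable section

namespace Groth.Agent.RGModLib

variable {S : Pair.{u}} {I : Type u} [SmallCategory I] [IsCofiltered I] (D : I ⥤ Over S)
  (c : Cone D) (hc : IsLimit c) [∀ (i j : I) (t : i ⟶ j), IsAffineHom (D.map t).left.hom]

include hc in
/-- A limit of modulus pairs over a base is a limit of schemes, with the pulled-back modulus. -/
theorem isLimit_forget_pair
    (hmin : ∀ (i j : I) (t : i ⟶ j), IsMinimal (D.obj i).left.mod (D.obj j).left.mod (D.map t).left.hom) :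
    Nonempty (IsLimit ((Over.forget S ⋙ Pair.forget).mapCone c)) ∧
      ∀ i, c.pt.left.mod = (D.obj i).left.mod.comap (c.π.app i).left.hom := by
  let F := D ⋙ Over.forget S ⋙ Pair.forget
  haveI hF : ∀ (i j : I) (t : i ⟶ j), IsAffineHom (F.map t) := fun i j t =>
    ‹∀ (i j : I) (t : i ⟶ j), IsAffineHom (D.map t).left.hom› i j t
  obtain ⟨d, hd, -⟩ := AffLim.exists_isLimit F
  obtain ⟨i₀⟩ := IsCofiltered.nonempty (C := I)
  let J : ∀ i, (F.obj i).IdealSheafData := fun i => (D.obj i).left.mod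
  let IX := (J i₀).comap (d.π.app i₀)
  have hIX : ∀ i, IX = (J i).comap (d.π.app i) := fun i => by
    let k := IsCofiltered.min i₀ i
    have e : ∀ (j : I) (t : k ⟶ j), (J j).comap (d.π.app j) = (J k).comap (d.π.app k) := fun j t => by
      rw [← d.w t, Scheme.IdealSheafData.comap_comp, show J k = (J j).comap (F.map t) from hmin k j t]
    exact (e i₀ (IsCofiltered.minToLeft i₀ i)).trans (e i (IsCofiltered.minToRight i₀ i)).symm
  have hcart : BlowUp.IsEffCartierIdeal IX :=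
    S18744.result F d hd J (fun i => (D.obj i).left.isEffCartier) hmin i₀
  let P : Pair.{u} := ⟨d.pt, IX, hcart⟩
  let p : ∀ i, P ⟶ (D.obj i).left := fun i => ⟨d.π.app i, le_of_eq (hIX i)⟩
  have hp : ∀ {i j : I} (t : i ⟶ j), p i ≫ (D.map t).left = p j := fun {i j} t => Pair.Hom.ext (d.w t)
  have hp' : ∀ i, p i ≫ (D.obj i).hom = p i₀ ≫ (D.obj i₀).hom := fun i => by
    let k := IsCofiltered.min i₀ i
    have e : ∀ (j : I) (t : k ⟶ j), p j ≫ (D.obj j).hom = p k ≫ (D.obj k).hom := fun j t => by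
      rw [← hp t, Category.assoc, Over.w]
    exact (e i (IsCofiltered.minToRight i₀ i)).trans (e i₀ (IsCofiltered.minToLeft i₀ i)).symm
  let cP : Cone D :=
    { pt := Over.mk (p i₀ ≫ (D.obj i₀).hom)
      π :=
        { app := fun i => Over.homMk (p i) (hp' i)
          naturality := fun i j t => by
            apply Over.OverMorphism.ext
            show 𝟙 P ≫ p j = p i ≫ (D.map t).left
            rw [Category.id_comp, hp t] } }
  let φ := hc.lift cP
  have hφ : ∀ i, φ.left.hom ≫ (c.π.app i).left.hom = d.π.app i := fun i =>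
    congrArg (fun q : cP.pt ⟶ D.obj i => q.left.hom) (hc.fac cP i)
  let r₀ : c.pt.left.total ⟶ d.pt := hd.lift ((Over.forget S ⋙ Pair.forget).mapCone c)
  have hr₀ : ∀ i, r₀ ≫ d.π.app i = (c.π.app i).left.hom := fun i =>
    hd.fac ((Over.forget S ⋙ Pair.forget).mapCone c) i
  have hr₀' : IX.comap r₀ = (J i₀).comap (c.π.app i₀).left.hom := by
    rw [← hr₀ i₀, Scheme.IdealSheafData.comap_comp]
  let r : c.pt.left ⟶ P := ⟨r₀, by
    show c.pt.left.mod ≤ IX.comap r₀
    rw [hr₀']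
    exact (c.π.app i₀).left.cond⟩
  have hrp : ∀ i, r ≫ p i = (c.π.app i).left := fun i => Pair.Hom.ext (hr₀ i)
  let r' : c.pt ⟶ cP.pt := Over.homMk r (by
    show r ≫ p i₀ ≫ (D.obj i₀).hom = c.pt.hom
    rw [← Category.assoc, hrp]
    exact Over.w (c.π.app i₀))
  have h1 : r' ≫ φ = 𝟙 c.pt := hc.hom_ext fun i => by
    rw [Category.assoc, hc.fac, Category.id_comp]
    apply Over.OverMorphism.ext
    exact hrp i
  have h2 : φ.left.hom ≫ r₀ = 𝟙 d.pt := hd.hom_ext fun i => by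
    rw [Category.assoc, hr₀, hφ]
    exact (Category.id_comp _).symm
  have h1' : r₀ ≫ φ.left.hom = 𝟙 c.pt.left.total :=
    congrArg (fun q : c.pt ⟶ c.pt => q.left.hom) h1
  refine ⟨⟨IsLimit.ofIsoLimit hd (Cone.ext ⟨φ.left.hom, r₀, h2, h1'⟩ fun i => (hφ i).symm)⟩, fun i => ?_⟩
  have e1 : (D.obj i).left.mod.comap (c.π.app i).left.hom = IX.comap r₀ := by
    rw [← hr₀ i, Scheme.IdealSheafData.comap_comp, hIX i]
  refine le_antisymm (c.π.app i).left.cond ?_
  rw [e1]
  refine (Scheme.IdealSheafData.comap_mono r₀ φ.left.cond).trans ?_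
  show (c.pt.left.mod.comap φ.left.hom).comap r₀ ≤ c.pt.left.mod
  rw [← Scheme.IdealSheafData.comap_comp, h1', Scheme.IdealSheafData.comap_id]

/-- Equal images in the localization agree after an admissible blow-up. -/
theorem exists_admBlowup_of_map_eq {P R : Pair.{u}} (f g : P ⟶ R)
    (h : (Pair.admBlowup.{u}).Q.map f = (Pair.admBlowup.{u}).Q.map g) :
    ∃ (P' : Pair.{u}) (t : P' ⟶ P), Pair.admBlowup t ∧ t ≫ f = t ≫ g := by
  obtain ⟨P', t, ht, e⟩ := (MorphismProperty.map_eq_iff_precomp (Pair.admBlowup.{u}).Q Pair.admBlowup f g).1 h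
  exact ⟨P', t, ht, e⟩

/-- Equal images in the localization means equal morphisms of pairs. -/
theorem eq_of_map_eq {P R : Pair.{u}} (f g : P ⟶ R)
    (h : (Pair.admBlowup.{u}).Q.map f = (Pair.admBlowup.{u}).Q.map g) : f = g := by
  obtain ⟨P', t, ht, e⟩ := exists_admBlowup_of_map_eq f g h
  haveI := ht.2.1
  haveI := surjective_admBlowup P.isEffCartier ht
  haveI := dominant_admBlowup P.isEffCartier ht
  exact Pair.Hom.ext (hom_ext_of_surjective_dominant t.hom f.hom g.hom (congrArg Pair.Hom.hom e))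

variable [CompactSpace S.total] [QuasiSeparatedSpace S.total]
  [∀ i, CompactSpace (D.obj i).left.total] [∀ i, QuasiSeparatedSpace (D.obj i).left.total]
  [CompactSpace c.pt.left.total] [QuasiSeparatedSpace c.pt.left.total]
  (Y : Over S) [CompactSpace Y.left.total] [QuasiSeparatedSpace Y.left.total] [LocallyOfFiniteType Y.hom.hom]

include hc in
/-- Surjectivity. -/
theorem exists_loc_hom
    (hmin : ∀ (i j : I) (t : i ⟶ j), IsMinimal (D.obj i).left.mod (D.obj j).left.mod (D.map t).left.hom)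
    (h : (∀ (i j : I) (t : i ⟶ j), IsSchemeTheoreticallyDominant (D.map t).left.hom) ∨
      LocallyOfFinitePresentation Y.hom.hom)
    (φ : (Pair.admBlowup.{u}).Q.obj c.pt.left ⟶ (Pair.admBlowup.{u}).Q.obj Y.left)
    (hφ : φ ≫ (Pair.admBlowup.{u}).Q.map Y.hom = (Pair.admBlowup.{u}).Q.map c.pt.hom) :
    ∃ (i : I) (φi : (Pair.admBlowup.{u}).Q.obj (D.obj i).left ⟶ (Pair.admBlowup.{u}).Q.obj Y.left),
      φi ≫ (Pair.admBlowup.{u}).Q.map Y.hom = (Pair.admBlowup.{u}).Q.map (D.obj i).hom ∧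
        (Pair.admBlowup.{u}).Q.map (c.π.app i).left ≫ φi = φ := by
  obtain ⟨⟨hd⟩, hIX⟩ := isLimit_forget_pair D c hc hmin
  obtain ⟨X', s, a, hs, hsa⟩ := ModPairLib.Frac.exists_frac Pair.admBlowup (Pair.admBlowup.{u}).Q φ
  have hover : (Pair.admBlowup.{u}).Q.map (a ≫ Y.hom) = (Pair.admBlowup.{u}).Q.map (s ≫ c.pt.hom) := by
    rw [Functor.map_comp, Functor.map_comp, ← hsa, Category.assoc, hφ]
  have haY : a.hom ≫ Y.hom.hom = s.hom ≫ c.pt.hom.hom := congrArg Pair.Hom.hom (eq_of_map_eq _ _ hover)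
  let F := D ⋙ Over.forget S ⋙ Pair.forget
  let d : Cone F := (Over.forget S ⋙ Pair.forget).mapCone c
  let J : ∀ i, (F.obj i).IdealSheafData := fun i => (D.obj i).left.mod
  have hJ : ∀ i, BlowUp.IsEffCartierIdeal (J i) := fun i => (D.obj i).left.isEffCartier
  haveI : ∀ (i j : I) (t : i ⟶ j), IsAffineHom (F.map t) :=
    fun i j t => ‹∀ (i j : I) (t : i ⟶ j), IsAffineHom (D.map t).left.hom› i j t
  haveI : ∀ i, CompactSpace (F.obj i) := fun i => ‹∀ i, CompactSpace (D.obj i).left.total› i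
  haveI : ∀ i, QuasiSeparatedSpace (F.obj i) := fun i => ‹∀ i, QuasiSeparatedSpace (D.obj i).left.total› i
  obtain ⟨hsm, hsp, hsi⟩ := hs
  have hsm' : X'.mod = c.pt.left.mod.comap s.hom := hsm
  obtain ⟨i, T, IT, si, hT, hsiadm, e, he⟩ := S18746.result F d hd J hJ hmin c.pt.left.mod hIX s.hom
    (hsm' ▸ X'.isEffCartier) ⟨rfl, hsp, hsi⟩
  let q : ModPair.mprod (d.π.app i) si c.pt.left.mod IT ⟶ c.pt.left.total :=
    ModPair.mprodι (d.π.app i) si c.pt.left.mod IT ≫ pullback.fst (d.π.app i) si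
  have hq : e.inv ≫ s.hom = q := by rw [← he, e.inv_hom_id_assoc]
  obtain ⟨hPc, hPadm⟩ := isAdmBlowup_mprod_fst (f := d.π.app i) (si := si) c.pt.left.isEffCartier (hIX i) hT hsiadm
  let P : Pair.{u} := ⟨_, c.pt.left.mod.comap q, hPc⟩
  let εh : P ⟶ X' := ⟨e.inv, le_of_eq (by
    show c.pt.left.mod.comap q = X'.mod.comap e.inv
    rw [hsm', ← Scheme.IdealSheafData.comap_comp, hq])⟩
  let sP : P ⟶ c.pt.left := ⟨q, le_rfl⟩
  have hεs : εh ≫ s = sP := Pair.Hom.ext hq
  let σ : ∀ i, F.obj i ⟶ S.total := fun i => (D.obj i).hom.hom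
  have hσ : ∀ ⦃k j : I⦄ (t : k ⟶ j), F.map t ≫ σ j = σ k := fun k j t => congrArg Pair.Hom.hom (Over.w (D.map t))
  have hcw : d.π.app i ≫ σ i = c.pt.hom.hom := congrArg Pair.Hom.hom (Over.w (c.π.app i))
  obtain ⟨k, ak, hak, haky, hπak⟩ := exists_stage_hom F J si IT hmin hsiadm hT hJ d hd c.pt.left.mod hIX σ hσ
    Y.hom.hom Y.left.mod Y.left.isEffCartier h (e.inv ≫ a.hom)
    (by rw [Category.assoc, haY, reassoc_of% hq, hcw])
    (εh ≫ a).cond
  obtain ⟨hkc, hkadm⟩ := prodSystem_adm F J si IT hmin hsiadm hT hJ k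
  let Pk : Pair.{u} := ⟨_, prodMod F J si IT hmin k, hkc⟩
  let sk : Pk ⟶ (D.obj k.left).left := ⟨prodFst F J si IT hmin k, le_rfl⟩
  let akh : Pk ⟶ Y.left := ⟨ak, hak⟩
  let πk : P ⟶ Pk := ⟨(prodCone F J si IT hmin d c.pt.left.mod hIX).π.app k,
    le_of_eq (comap_eq_of_w (hIX k.left) rfl (prodCone_π_fst F J si IT hmin d c.pt.left.mod hIX k).symm)⟩
  have hsk : Pair.admBlowup sk := hkadm
  haveI : IsIso ((Pair.admBlowup.{u}).Q.map sk) := Localization.inverts (Pair.admBlowup.{u}).Q Pair.admBlowup sk hsk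
  refine ⟨k.left, inv ((Pair.admBlowup.{u}).Q.map sk) ≫ (Pair.admBlowup.{u}).Q.map akh, ?_, ?_⟩
  · rw [Category.assoc, IsIso.inv_comp_eq, ← Functor.map_comp, ← Functor.map_comp]
    congr 1
    exact Pair.Hom.ext haky
  · have hsP : Pair.admBlowup sP := hPadm
    refine ModPairLib.Frac.cancel_s (Pair.admBlowup.{u}).Q hsP ?_
    have e1 : sP ≫ (c.π.app k.left).left = πk ≫ sk :=
      Pair.Hom.ext (prodCone_π_fst F J si IT hmin d c.pt.left.mod hIX k).symm
    have e2 : πk ≫ akh = εh ≫ a := Pair.Hom.ext hπak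
    rw [← Functor.map_comp_assoc, e1, Functor.map_comp_assoc, IsIso.hom_inv_id_assoc, ← Functor.map_comp, e2,
      ← hεs, Functor.map_comp, Functor.map_comp, Category.assoc, hsa]

include hc in
/-- Injectivity. -/
theorem exists_loc_eq
    (hmin : ∀ (i j : I) (t : i ⟶ j), IsMinimal (D.obj i).left.mod (D.obj j).left.mod (D.map t).left.hom)
    (i : I) (φ ψ : (Pair.admBlowup.{u}).Q.obj (D.obj i).left ⟶ (Pair.admBlowup.{u}).Q.obj Y.left)
    (hφ : φ ≫ (Pair.admBlowup.{u}).Q.map Y.hom = (Pair.admBlowup.{u}).Q.map (D.obj i).hom)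
    (hψ : ψ ≫ (Pair.admBlowup.{u}).Q.map Y.hom = (Pair.admBlowup.{u}).Q.map (D.obj i).hom)
    (h : (Pair.admBlowup.{u}).Q.map (c.π.app i).left ≫ φ = (Pair.admBlowup.{u}).Q.map (c.π.app i).left ≫ ψ) :
    ∃ (j : I) (t : j ⟶ i), (Pair.admBlowup.{u}).Q.map (D.map t).left ≫ φ =
      (Pair.admBlowup.{u}).Q.map (D.map t).left ≫ ψ := by
  obtain ⟨⟨hd⟩, hIX⟩ := isLimit_forget_pair D c hc hmin
  obtain ⟨T, s, a, b, hs, hsa, hsb⟩ := ModPairLib.Frac.exists_common Pair.admBlowup (Pair.admBlowup.{u}).Q φ ψ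
  have haY : a ≫ Y.hom = s ≫ (D.obj i).hom := eq_of_map_eq _ _ (by
    rw [Functor.map_comp, Functor.map_comp, ← hsa, Category.assoc, hφ])
  have hbY : b ≫ Y.hom = s ≫ (D.obj i).hom := eq_of_map_eq _ _ (by
    rw [Functor.map_comp, Functor.map_comp, ← hsb, Category.assoc, hψ])
  let F := D ⋙ Over.forget S ⋙ Pair.forget
  let d : Cone F := (Over.forget S ⋙ Pair.forget).mapCone c
  let J : ∀ i, (F.obj i).IdealSheafData := fun i => (D.obj i).left.mod
  have hJ : ∀ i, BlowUp.IsEffCartierIdeal (J i) := fun i => (D.obj i).left.isEffCartier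
  haveI : ∀ (i j : I) (t : i ⟶ j), IsAffineHom (F.map t) :=
    fun i j t => ‹∀ (i j : I) (t : i ⟶ j), IsAffineHom (D.map t).left.hom› i j t
  haveI : ∀ i, CompactSpace (F.obj i) := fun i => ‹∀ i, CompactSpace (D.obj i).left.total› i
  haveI : ∀ i, QuasiSeparatedSpace (F.obj i) := fun i => ‹∀ i, QuasiSeparatedSpace (D.obj i).left.total› i
  let σ : ∀ i, F.obj i ⟶ S.total := fun i => (D.obj i).hom.hom
  have hσ : ∀ ⦃k j : I⦄ (t : k ⟶ j), F.map t ≫ σ j = σ k := fun k j t => congrArg Pair.Hom.hom (Over.w (D.map t))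
  let q : ModPair.mprod (d.π.app i) s.hom c.pt.left.mod T.mod ⟶ c.pt.left.total :=
    ModPair.mprodι (d.π.app i) s.hom c.pt.left.mod T.mod ≫ pullback.fst (d.π.app i) s.hom
  let q₂ : ModPair.mprod (d.π.app i) s.hom c.pt.left.mod T.mod ⟶ T.total :=
    ModPair.mprodι (d.π.app i) s.hom c.pt.left.mod T.mod ≫ pullback.snd (d.π.app i) s.hom
  have hw : q ≫ d.π.app i = q₂ ≫ s.hom := by simp only [q, q₂, Category.assoc, pullback.condition]
  obtain ⟨hPc, hPadm⟩ :=
    isAdmBlowup_mprod_fst (f := d.π.app i) (si := s.hom) c.pt.left.isEffCartier (hIX i) T.isEffCartier hs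
  let P : Pair.{u} := ⟨_, c.pt.left.mod.comap q, hPc⟩
  let sP : P ⟶ c.pt.left := ⟨q, le_rfl⟩
  let gP : P ⟶ T := ⟨q₂, le_of_eq (comap_eq_of_w (hIX i) hs.1 hw)⟩
  have eP : sP ≫ (c.π.app i).left = gP ≫ s := Pair.Hom.ext hw
  have hab : gP ≫ a = gP ≫ b := eq_of_map_eq _ _ (by
    have h' := congrArg (fun z => (Pair.admBlowup.{u}).Q.map sP ≫ z) h
    simp only [← Functor.map_comp_assoc, eP] at h'
    simp only [Functor.map_comp_assoc, hsa, hsb] at h'
    rw [Functor.map_comp, Functor.map_comp]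
    exact h')
  obtain ⟨k, hk⟩ := exists_stage_eq F J s.hom T.mod hmin hs T.isEffCartier hJ d hd c.pt.left.mod hIX σ hσ
    Y.hom.hom a.hom b.hom (congrArg Pair.Hom.hom haY) (congrArg Pair.Hom.hom hbY) (congrArg Pair.Hom.hom hab)
  obtain ⟨hkc, hkadm⟩ := prodSystem_adm F J s.hom T.mod hmin hs T.isEffCartier hJ k
  let Pk : Pair.{u} := ⟨_, prodMod F J s.hom T.mod hmin k, hkc⟩
  let sk : Pk ⟶ (D.obj k.left).left := ⟨prodFst F J s.hom T.mod hmin k, le_rfl⟩
  let gk : Pk ⟶ T := ⟨prodSnd F J s.hom T.mod hmin k, le_of_eq (prodMod_eq_snd F J s.hom T.mod hmin hs k)⟩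
  have hsk : Pair.admBlowup sk := hkadm
  have ek : sk ≫ (D.map k.hom).left = gk ≫ s := Pair.Hom.ext (by
    show (_ ≫ _) ≫ F.map k.hom = (_ ≫ _) ≫ s.hom
    simp only [Category.assoc, pullback.condition])
  have ek2 : gk ≫ a = gk ≫ b := Pair.Hom.ext hk
  refine ⟨k.left, k.hom, ModPairLib.Frac.cancel_s (Pair.admBlowup.{u}).Q hsk ?_⟩
  rw [← Functor.map_comp_assoc, ← Functor.map_comp_assoc, ek, Functor.map_comp_assoc, Functor.map_comp_assoc,
    hsa, hsb, ← Functor.map_comp, ← Functor.map_comp, ek2]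

end Groth.Agent.RGModLib
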