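import Groth.Agent.RGBlowLib.Target
import Groth.Prelude.Def_W4c6modpairsegaMP

/-!
# Flattening of minimal morphisms of modulus pairs
-/

set_option autoImplicit false
set_option linter.style.haveILetI false
set_option backward.isDefEq.respectTransparency false
set_option maxHeartbeats 1000000

universe u

open CategoryTheory CategoryTheory.Limits AlgebraicGeometry

noncomputable section

namespace Groth.Agent.RGModLib

variable {X S : Scheme.{u}}

theorem isCompact_interior [CompactSpace S] (IS : S.IdealSheafData) (hS : BlowUp.IsEffCartierIdeal IS) :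
    IsCompact (ModPair.interior IS : Set S) := by
  obtain ⟨haff, -⟩ := S1571.result S IS hS
  haveI := haff
  haveI : CompactSpace (ModPair.interior IS : Scheme.{u}) :=
    QuasiCompact.compactSpace_of_compactSpace (Scheme.Opens.ι (X := S) IS.support.compl)
  exact isCompact_iff_compactSpace.2 ‹CompactSpace (ModPair.interior IS : Scheme.{u})›

theorem isAdmissibleFor_interior (IS : S.IdealSheafData) (hS : BlowUp.IsEffCartierIdeal IS) :
    BlowUp.IsAdmissibleFor (ModPair.interior IS) IS :=
  ⟨ModPairLib.fg_of_isLP (ModPairLib.isLP_of_cart hS), Set.disjoint_left.2 fun _ hx hxU => hxU hx⟩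

/-- A minimal morphism of modulus pairs, flat over the interior, becomes flat after an admissible blow-up. -/
theorem exists_admBlowup_square_flat [CompactSpace S] [QuasiSeparatedSpace S]
    (IS : S.IdealSheafData) (IX : X.IdealSheafData) (hS : BlowUp.IsEffCartierIdeal IS)
    (f : X ⟶ S) (hf : IX = IS.comap f) [LocallyOfFiniteType f] [QuasiCompact f]
    [Flat (f ∣_ ModPair.interior IS)] [LocallyOfFinitePresentation (f ∣_ ModPair.interior IS)] :
    ∃ (𝓚 : S.IdealSheafData) (T : Scheme.{u}) (t : T ⟶ S) (Y : Scheme.{u}) (y : Y ⟶ X) (g : Y ⟶ T),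
      BlowUp.IsBlowUp t (IS * 𝓚) ∧ BlowUp.IsAdmissibleFor (ModPair.interior IS) (IS * 𝓚) ∧
      BlowUp.IsEffCartierIdeal (IS.comap t) ∧ ModPair.IsAdmBlowup (IS.comap t) IS t ∧
        BlowUp.IsEffCartierIdeal (IX.comap y) ∧ ModPair.IsAdmBlowup (IX.comap y) IX y ∧
        y ≫ f = g ≫ t ∧ Flat g ∧ LocallyOfFinitePresentation g ∧ QuasiCompact g ∧
        (QuasiSeparated f → QuasiSeparated g) := by
  let U := ModPair.interior IS
  obtain ⟨𝓚, T, b, hb, hadm, H⟩ := RGBlowLib.exists_flattening_scheme_mul f U (isCompact_interior IS hS) IS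
    (isAdmissibleFor_interior IS hS)
  have hex : ∀ x : S, x ∈ (IS * 𝓚).support ↔ x ∉ U := fun x => by
    refine ⟨fun h h' => Set.disjoint_left.1 hadm.2 h h', fun h => ?_⟩
    rw [Scheme.IdealSheafData.support_mul]
    exact Or.inl (not_not.1 h)
  have hc := IsPullback.of_hasPullback f b
  obtain ⟨𝒥, hJ⟩ := RGBlowLib.exists_killed_of_fg (((IS * 𝓚).comap f).comap (pullback.fst f b)) (by
    rw [← Scheme.IdealSheafData.comap_comp, pullback.condition, Scheme.IdealSheafData.comap_comp]
    exact ModPairLib.fg_of_isLP ((ModPairLib.isLP_of_cart hb.1).comap _))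
  obtain ⟨hfl, hfp⟩ := H _ _ _ hc 𝒥 hJ
  haveI := hfl
  haveI := hfp
  haveI : IsProper b := RGBlowLib.isProper_blowUp hb hadm
  have hU : (IS * 𝓚).support.compl = U := TopologicalSpace.Opens.ext (Set.ext fun x => by
    show x ∉ (IS * 𝓚).support ↔ x ∈ U
    rw [hex, not_not])
  haveI hbU : IsIso (b ∣_ U) := by
    rw [← hU]
    exact BlowCompLib.isIso_restrict _ b hb
  have hT : BlowUp.IsEffCartierIdeal (IS.comap b) := by
    have h := hb.1
    rw [BlowCompLib.comap_mul] at h
    exact BlowCompLib.isEffCartier_of_mul h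
  let p₁ := pullback.fst f b
  let p₂ := pullback.snd f b
  let y := 𝒥.subschemeι ≫ p₁
  let g := 𝒥.subschemeι ≫ p₂
  have hyg : y ≫ f = g ≫ b := by simp only [y, g, p₁, p₂, Category.assoc, pullback.condition]
  have hY : BlowUp.IsEffCartierIdeal (IX.comap y) := by
    rw [hf, ← Scheme.IdealSheafData.comap_comp, hyg, Scheme.IdealSheafData.comap_comp]
    exact BlowCompLib.isEffCartier_comap_flat hT g
  haveI : IsProper p₁ := MorphismProperty.pullback_fst (P := @IsProper) _ _ inferInstance
  haveI : IsProper y := MorphismProperty.comp_mem (W := @IsProper) _ _ inferInstance inferInstance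
  have hint : ModPair.interior IX = f ⁻¹ᵁ U := by
    ext x
    show x ∉ IX.support ↔ f x ∈ U
    rw [hf, Scheme.IdealSheafData.support_comap]
    rfl
  haveI : IsIso (p₁ ∣_ (f ⁻¹ᵁ U)) := RGBlowLib.isIso_restrict_snd b U f hc.flip
  haveI : IsIso (𝒥.subschemeι ∣_ (p₁ ⁻¹ᵁ (f ⁻¹ᵁ U))) :=
    RGBlowLib.isIso_subscheme_restrict _ 𝒥 hJ _ fun x hx h => by
      rw [Scheme.IdealSheafData.support_comap] at h
      have h' : p₁ x ∈ ((IS * 𝓚).comap f).support := h
      rw [Scheme.IdealSheafData.support_comap] at h'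
      exact (hex _).1 h' hx
  haveI : IsIso (y ∣_ (f ⁻¹ᵁ U)) := by rw [morphismRestrict_comp]; infer_instance
  haveI : QuasiCompact p₂ := MorphismProperty.pullback_snd (P := @QuasiCompact) _ _ inferInstance
  refine ⟨𝓚, T, b, _, y, g, hb, hadm, hT, ⟨rfl, inferInstance, hbU⟩, hY, ⟨rfl, inferInstance, by rw [hint]; infer_instance⟩,
    hyg, hfl, hfp, inferInstance, fun hq => ?_⟩
  haveI : QuasiSeparated p₂ := MorphismProperty.pullback_snd (P := @QuasiSeparated) _ _ hq
  infer_instance

end Groth.Agent.RGModLib
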