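import Groth.Agent.RGModLib.ModFlat
import Groth.Agent.RGModLib.NTarget

/-!
# Admissible blow-ups of a flat cover are refined by flat covers of admissible blow-ups
-/

set_option autoImplicit false
set_option linter.style.haveILetI false
set_option backward.isDefEq.respectTransparency false
set_option maxHeartbeats 1000000

universe u

open CategoryTheory CategoryTheory.Limits AlgebraicGeometry

noncomputable section

namespace Groth.Agent.RGModLib

variable {X Y Y' : Scheme.{u}}

/-- Injectivity over an open over which a morphism is an isomorphism. -/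
theorem eq_of_apply_eq_of_isIso {Z W : Scheme.{u}} (f : Z ⟶ W) (U : W.Opens) [IsIso (f ∣_ U)] {x y : Z}
    (h : f x = f y) (hy : f y ∈ U) : x = y :=
  congrArg Subtype.val ((f ∣_ U).isOpenEmbedding.injective
    (a₁ := ⟨x, show f x ∈ U from h ▸ hy⟩) (a₂ := ⟨y, hy⟩)
    (Subtype.ext (by rw [morphismRestrict_base_coe, morphismRestrict_base_coe]; exact h)))

theorem interior_comap {Z W : Scheme.{u}} (I : W.IdealSheafData) (g : Z ⟶ W) :
    ModPair.interior (I.comap g) = g ⁻¹ᵁ ModPair.interior I := by
  ext x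
  show x ∉ (I.comap g).support ↔ g x ∈ ModPair.interior I
  rw [Scheme.IdealSheafData.support_comap]
  rfl

/-- An admissible blow-up of a flat cover is refined by a flat cover of an admissible blow-up. -/
theorem exists_admBlowup_flat_refinement [CompactSpace X] [QuasiSeparatedSpace X]
    (IX : X.IdealSheafData) (IY : Y.IdealSheafData) (IY' : Y'.IdealSheafData)
    (hX : BlowUp.IsEffCartierIdeal IX) (u : Y ⟶ X) (hu : ModPair.IsMinimal IY IX u) [Flat u]
    [LocallyOfFinitePresentation u] [QuasiCompact u] [QuasiSeparated u]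
    (b : Y' ⟶ Y) (hb : ModPair.IsAdmBlowup IY' IY b) :
    ∃ (X' : Scheme.{u}) (IX' : X'.IdealSheafData) (a : X' ⟶ X) (V : Scheme.{u})
      (IV : V.IdealSheafData) (v : V ⟶ X') (w : V ⟶ Y'),
      BlowUp.IsEffCartierIdeal IX' ∧ ModPair.IsAdmBlowup IX' IX a ∧
        BlowUp.IsEffCartierIdeal IV ∧ ModPair.IsMinimal IV IX' v ∧ Flat v ∧
        LocallyOfFinitePresentation v ∧ QuasiCompact v ∧ QuasiSeparated v ∧
        ModPair.IsAdmBlowup IV IY' w ∧ w ≫ b ≫ u = v ≫ a ∧
        (Surjective u → Surjective v) := by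
  obtain ⟨hbm, hbp, hbi⟩ := hb
  haveI := hbp
  let U := ModPair.interior IX
  have hY : ModPair.interior IY = u ⁻¹ᵁ U := by rw [show IY = IX.comap u from hu, interior_comap]
  haveI : IsIso (b ∣_ (u ⁻¹ᵁ U)) := hY ▸ hbi
  haveI : Flat (u ∣_ U) := IsZariskiLocalAtTarget.restrict (P := @Flat) inferInstance U
  haveI : LocallyOfFinitePresentation (u ∣_ U) :=
    IsZariskiLocalAtTarget.restrict (P := @LocallyOfFinitePresentation) inferInstance U
  haveI : Flat ((b ≫ u) ∣_ U) := by rw [morphismRestrict_comp]; infer_instance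
  haveI : LocallyOfFinitePresentation ((b ≫ u) ∣_ U) := by rw [morphismRestrict_comp]; infer_instance
  have hmin : IY' = IX.comap (b ≫ u) := by
    rw [Scheme.IdealSheafData.comap_comp, ← show IY = IX.comap u from hu]
    exact hbm
  obtain ⟨𝓚, X', a, V, w, v, -, -, hX', ha, hV, hw, hwv, hfl, hfp, hqc, hqs⟩ :=
    exists_admBlowup_square_flat IX IY' hX (b ≫ u) hmin
  have hIV : IY'.comap w = (IX.comap a).comap v := by
    rw [hmin, ← Scheme.IdealSheafData.comap_comp, ← Scheme.IdealSheafData.comap_comp, hwv]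
  refine ⟨X', IX.comap a, a, V, IY'.comap w, v, w, hX', ha, hV, hIV, hfl, hfp, hqc, hqs inferInstance, hw, hwv, fun hs => ?_⟩
  haveI := hfl
  haveI : IsProper a := ha.2.1
  haveI : IsProper w := hw.2.1
  haveI : IsSeparated (pullback.fst u a) := MorphismProperty.pullback_fst (P := @IsSeparated) _ _ inferInstance
  let k : V ⟶ pullback u a := pullback.lift (w ≫ b) v (by rw [Category.assoc, hwv])
  haveI : IsProper (k ≫ pullback.fst u a) := by
    rw [pullback.lift_fst]
    exact MorphismProperty.comp_mem (W := @IsProper) _ _ inferInstance inferInstance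
  haveI : IsProper k := IsProper.of_comp k (pullback.fst u a)
  let W : X'.Opens := (IX.comap a).support.compl
  obtain ⟨haff, hdom⟩ := S1571.result X' (IX.comap a) hX'
  haveI := haff
  haveI := hdom
  haveI : Flat (pullback.snd u a) := MorphismProperty.pullback_snd (P := @Flat) _ _ inferInstance
  let Q : (pullback u a).Opens := pullback.snd u a ⁻¹ᵁ W
  haveI : IsSchemeTheoreticallyDominant Q.ι := S0449.dominant_preimage (pullback.snd u a) W
  haveI : QuasiCompact Q.ι :=
    MorphismProperty.of_isPullback (P := @QuasiCompact) (isPullback_morphismRestrict (pullback.snd u a) W)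
      (show QuasiCompact W.ι from inferInstanceAs (QuasiCompact (Scheme.Opens.ι (X := X') (IX.comap a).support.compl)))
  have hQ : (Q : Set ↥(pullback u a)) ⊆ Set.range k := fun z hz => by
    have hU : u (pullback.fst u a z) ∈ U := by
      rw [← Scheme.Hom.comp_apply, pullback.condition]
      have h : pullback.snd u a z ∈ ModPair.interior (IX.comap a) := hz
      rw [interior_comap] at h
      exact h
    haveI : IsIso (w ∣_ (b ⁻¹ᵁ (u ⁻¹ᵁ U))) := by
      have h : ModPair.interior IY' = b ⁻¹ᵁ (u ⁻¹ᵁ U) := by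
        rw [show IY' = IY.comap b from hbm, interior_comap, hY]
      rw [← h]
      exact hw.2.2
    haveI : IsIso ((w ≫ b) ∣_ (u ⁻¹ᵁ U)) := by rw [morphismRestrict_comp]; infer_instance
    obtain ⟨y, hy⟩ := ((w ≫ b) ∣_ (u ⁻¹ᵁ U)).surjective ⟨pullback.fst u a z, hU⟩
    have hy' : (w ≫ b) (((w ≫ b) ⁻¹ᵁ (u ⁻¹ᵁ U)).ι y) = pullback.fst u a z := by
      rw [← Scheme.Hom.comp_apply, ← morphismRestrict_ι, Scheme.Hom.comp_apply, hy]
      rfl
    refine ⟨((w ≫ b) ⁻¹ᵁ (u ⁻¹ᵁ U)).ι y, ?_⟩
    haveI : IsIso (pullback.fst u a ∣_ (u ⁻¹ᵁ U)) := by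
      haveI : IsIso (a ∣_ U) := ha.2.2
      exact RGBlowLib.isIso_restrict_snd a U u (IsPullback.of_hasPullback u a).flip
    exact eq_of_apply_eq_of_isIso (pullback.fst u a) (u ⁻¹ᵁ U)
      (by rw [← Scheme.Hom.comp_apply k, pullback.lift_fst, hy']) hU
  have hks : Surjective k := ⟨fun z => by
    have hd : Dense (Q : Set ↥(pullback u a)) := by
      have h := Q.ι.denseRange
      rwa [DenseRange, Scheme.Opens.range_ι] at h
    exact (k.isClosedMap.isClosed_range.closure_subset_iff.2 hQ) (hd z)⟩
  haveI := hks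
  haveI := hs
  rw [show v = k ≫ pullback.snd u a from (pullback.lift_snd _ _ _).symm]
  infer_instance

end Groth.Agent.RGModLib
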