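import Groth.Agent.RGBlowLib.Target

/-!
# Strict transforms of morphisms which are open immersions over an open
-/

set_option autoImplicit false
set_option linter.style.haveILetI false
set_option backward.isDefEq.respectTransparency false
set_option maxHeartbeats 1000000

universe u

open CategoryTheory CategoryTheory.Limits AlgebraicGeometry

noncomputable section

namespace Groth.Agent.RGModLib

open RGBlowLib (exists_exact_admissible exists_flattening_scheme_mul isPullback_restrict_snd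
  isIso_restrict_snd isIso_subscheme_restrict)

variable {X S : Scheme.{u}}

/-- A flat separated morphism of finite presentation which is an open immersion over a retrocompact
schematically dense open is an open immersion. -/
theorem isOpenImmersion_of_openImmersion_over_dense (g : X ⟶ S) [IsSeparated g] [Flat g]
    [LocallyOfFinitePresentation g] (W : S.Opens) [QuasiCompact W.ι] [IsSchemeTheoreticallyDominant W.ι]
    [IsOpenImmersion (g ∣_ W)] : IsOpenImmersion g := by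
  let O : S.Opens := ⟨Set.range g, g.isOpenMap.isOpen_range⟩
  let P : (O : Scheme.{u}).Opens := O.ι ⁻¹ᵁ W
  haveI : IsSchemeTheoreticallyDominant P.ι := S0449.dominant_preimage O.ι W
  haveI : QuasiCompact P.ι := by
    exact MorphismProperty.of_isPullback (P := @QuasiCompact) (isPullback_morphismRestrict O.ι W) inferInstance
  haveI : Flat (g ∣_ O) := IsZariskiLocalAtTarget.restrict (P := @Flat) inferInstance O
  haveI : IsSeparated (g ∣_ O) := IsZariskiLocalAtTarget.restrict (P := @IsSeparated) inferInstance O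
  haveI : LocallyOfFiniteType (g ∣_ O) := IsZariskiLocalAtTarget.restrict (P := @LocallyOfFiniteType) inferInstance O
  let A : ((g ∣_ O) ⁻¹ᵁ P).toScheme ⟶ X := ((g ∣_ O) ⁻¹ᵁ P).ι ≫ (g ⁻¹ᵁ O).ι
  have hA : ((g ∣_ O) ∣_ P) ≫ P.ι ≫ O.ι = A ≫ g := by
    simp only [A, Category.assoc]
    rw [morphismRestrict_ι_assoc, morphismRestrict_ι]
  have hr : Set.range A ⊆ Set.range (g ⁻¹ᵁ W).ι := by
    rintro _ ⟨x, rfl⟩
    rw [Scheme.Opens.range_ι]
    show g (A x) ∈ W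
    rw [← Scheme.Hom.comp_apply, ← hA]
    exact (((g ∣_ O) ∣_ P) x).2
  haveI : IsOpenImmersion A := inferInstanceAs (IsOpenImmersion (((g ∣_ O) ⁻¹ᵁ P).ι ≫ (g ⁻¹ᵁ O).ι))
  haveI : IsOpenImmersion (IsOpenImmersion.lift (g ⁻¹ᵁ W).ι A hr ≫ (g ⁻¹ᵁ W).ι) := by
    rw [IsOpenImmersion.lift_fac]; infer_instance
  haveI : IsOpenImmersion (IsOpenImmersion.lift (g ⁻¹ᵁ W).ι A hr) := IsOpenImmersion.of_comp _ (g ⁻¹ᵁ W).ι
  haveI : IsOpenImmersion (((g ∣_ O) ∣_ P) ≫ (P.ι ≫ O.ι)) := by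
    rw [hA, ← IsOpenImmersion.lift_fac (g ⁻¹ᵁ W).ι A hr, Category.assoc, ← morphismRestrict_ι]
    infer_instance
  haveI : IsOpenImmersion ((g ∣_ O) ∣_ P) := IsOpenImmersion.of_comp _ (P.ι ≫ O.ι)
  haveI : IsIso ((g ∣_ O) ∣_ P) := (isIso_iff_isOpenImmersion_and_surjective _).2
    ⟨inferInstance, ⟨fun y => by
      obtain ⟨x, hx⟩ := (y.1.2 : O.ι y.1 ∈ O)
      have hxO : x ∈ g ⁻¹ᵁ O := ⟨x, rfl⟩
      have hxy : (g ∣_ O) ⟨x, hxO⟩ = y.1 := Subtype.ext (by rw [morphismRestrict_base_coe]; exact hx)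
      refine ⟨⟨⟨x, hxO⟩, show (g ∣_ O) ⟨x, hxO⟩ ∈ P by rw [hxy]; exact y.2⟩, Subtype.ext ?_⟩
      rw [morphismRestrict_base_coe]
      exact hxy⟩⟩
  haveI : IsOpenImmersion (g ∣_ O) := S0449.result (g ∣_ O) P
  have htop : g ⁻¹ᵁ O = ⊤ := eq_top_iff.2 fun x _ => ⟨x, rfl⟩
  haveI : IsIso (g ⁻¹ᵁ O).ι := by rw [htop]; exact inferInstanceAs (IsIso X.topIso.hom)
  rw [show g = inv (g ⁻¹ᵁ O).ι ≫ (g ∣_ O) ≫ O.ι by simp]
  infer_instance

/-- After a blow-up with centre off `R`, the strict transform of a morphism that is an open immersion over `R`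
is an open of the base. -/
theorem exists_open_strict_of_openImmersion [CompactSpace S] [QuasiSeparatedSpace S] (φ : X ⟶ S) [IsSeparated φ]
    [LocallyOfFiniteType φ] [QuasiCompact φ] (R : S.Opens) (hR : IsCompact (R : Set S)) [IsOpenImmersion (φ ∣_ R)]
    (U : S.Opens) (hUR : U ≤ R) [IsIso (φ ∣_ U)] :
    ∃ (𝓘 : S.IdealSheafData) (S' : Scheme.{u}) (b : S' ⟶ S), BlowUp.IsBlowUp b 𝓘 ∧ BlowUp.IsAdmissibleFor R 𝓘 ∧
      (∀ x : S, x ∉ R → x ∈ 𝓘.support) ∧
      ∃ (V : S'.Opens) (m : (V : Scheme.{u}) ⟶ X),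
        b ⁻¹ᵁ U ≤ V ∧ IsProper m ∧ m ≫ φ = V.ι ≫ b := by
  obtain ⟨𝓘₀, h₀, hsupp⟩ := exists_exact_admissible R hR
  haveI : Flat (φ ∣_ R) := inferInstance
  haveI : LocallyOfFinitePresentation (φ ∣_ R) := inferInstance
  obtain ⟨𝓚, S', b, hb, hadm, H⟩ := exists_flattening_scheme_mul φ R hR 𝓘₀ h₀
  have hex : ∀ x : S, x ∉ R → x ∈ (𝓘₀ * 𝓚).support := fun x hx => by
    rw [Scheme.IdealSheafData.support_mul]
    exact Or.inl (hsupp x hx)
  have hc := IsPullback.of_hasPullback φ b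
  obtain ⟨𝒥, hJ⟩ := RGBlowLib.exists_killed_of_fg (((𝓘₀ * 𝓚).comap φ).comap (pullback.fst φ b)) (by
    rw [← Scheme.IdealSheafData.comap_comp, pullback.condition, Scheme.IdealSheafData.comap_comp]
    exact ModPairLib.fg_of_isLP ((ModPairLib.isLP_of_cart hb.1).comap _))
  obtain ⟨hfl, hfp⟩ := H _ _ _ hc 𝒥 hJ
  haveI := hfl
  haveI := hfp
  let p₂ := pullback.snd φ b
  let g := 𝒥.subschemeι ≫ p₂
  let D := (𝓘₀ * 𝓚).comap b
  have hD : (Scheme.IdealSheafData.support D).compl = b ⁻¹ᵁ R := by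
    ext s
    show s ∉ D.support ↔ b s ∈ R
    rw [Scheme.IdealSheafData.support_comap]
    exact ⟨fun h => by_contra fun h' => h (hex _ h'), fun h h' => Set.disjoint_left.1 hadm.2 h' h⟩
  obtain ⟨haff, hdom⟩ := S1571.result S' D hb.1
  rw [show (D.support.compl : S'.Opens) = b ⁻¹ᵁ R from hD] at haff hdom
  haveI := haff
  haveI := hdom
  have hoff : ∀ (T : S.Opens), T ≤ R → ∀ x ∈ p₂ ⁻¹ᵁ (b ⁻¹ᵁ T),
      x ∉ (((𝓘₀ * 𝓚).comap φ).comap (pullback.fst φ b)).support := fun T hT x hx h => by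
    rw [← Scheme.IdealSheafData.comap_comp, pullback.condition, Scheme.IdealSheafData.support_comap] at h
    exact Set.disjoint_left.1 hadm.2 h (hT hx)
  haveI : IsOpenImmersion (p₂ ∣_ (b ⁻¹ᵁ R)) := by
    obtain ⟨l, hl⟩ := isPullback_restrict_snd φ R b hc
    exact MorphismProperty.of_isPullback (P := @IsOpenImmersion) hl.flip ‹IsOpenImmersion (φ ∣_ R)›
  haveI : IsIso (𝒥.subschemeι ∣_ (p₂ ⁻¹ᵁ (b ⁻¹ᵁ R))) := isIso_subscheme_restrict _ 𝒥 hJ _ (hoff R le_rfl)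
  haveI : IsOpenImmersion (g ∣_ (b ⁻¹ᵁ R)) := by rw [morphismRestrict_comp]; infer_instance
  haveI : IsSeparated p₂ := MorphismProperty.of_isPullback hc inferInstance
  haveI : IsOpenImmersion g := isOpenImmersion_of_openImmersion_over_dense g (b ⁻¹ᵁ R)
  haveI : IsIso (p₂ ∣_ (b ⁻¹ᵁ U)) := isIso_restrict_snd φ U b hc
  haveI : IsIso (𝒥.subschemeι ∣_ (p₂ ⁻¹ᵁ (b ⁻¹ᵁ U))) := isIso_subscheme_restrict _ 𝒥 hJ _ (hoff U hUR)
  haveI : IsIso (g ∣_ (b ⁻¹ᵁ U)) := by rw [morphismRestrict_comp]; infer_instance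
  haveI : IsProper b := RGBlowLib.isProper_blowUp hb hadm
  haveI : IsProper (pullback.fst φ b) := MorphismProperty.pullback_fst (P := @IsProper) _ _ inferInstance
  haveI : IsProper (𝒥.subschemeι ≫ pullback.fst φ b) :=
    MorphismProperty.comp_mem (W := @IsProper) _ _ inferInstance inferInstance
  refine ⟨𝓘₀ * 𝓚, S', b, hb, hadm, hex, g.opensRange, g.isoOpensRange.inv ≫ 𝒥.subschemeι ≫ pullback.fst φ b,
    fun y hy => ?_, ?_, ?_⟩
  · obtain ⟨x, hx⟩ := (g ∣_ (b ⁻¹ᵁ U)).surjective ⟨y, hy⟩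
    refine ⟨(g ⁻¹ᵁ (b ⁻¹ᵁ U)).ι x, ?_⟩
    rw [← Scheme.Hom.comp_apply, ← morphismRestrict_ι, Scheme.Hom.comp_apply, hx]
    rfl
  · exact MorphismProperty.comp_mem (W := @IsProper) _ _ inferInstance inferInstance
  · simp only [Category.assoc, pullback.condition]
    rw [← Scheme.Hom.isoOpensRange_inv_comp g, Category.assoc, Category.assoc]

end Groth.Agent.RGModLib
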