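import Groth.Agent.RGBlowLib.Target
import Groth.Agent.SchDenseLib.Basic

/-!
# A common separated target with proper quasi-dominations
-/

set_option autoImplicit false
set_option linter.style.haveILetI false
set_option backward.isDefEq.respectTransparency false
set_option maxHeartbeats 1000000

universe u

open CategoryTheory CategoryTheory.Limits AlgebraicGeometry

noncomputable section

namespace Groth.Agent.RGModLib

variable {S U Z X₀ Y : Scheme.{u}}

/-- A graph of a proper partial map into a separated scheme is closed. -/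
theorem isClosed_range_lift_of_isProper (q : Z ⟶ S) (g : Y ⟶ S) [IsSeparated q] (W : Z.Opens)
    (p : (W : Scheme.{u}) ⟶ Y) [IsProper p] (hp : W.ι ≫ q = p ≫ g) :
    IsClosed (Set.range (fun x => pullback.lift W.ι p hp x)) := by
  haveI : IsSeparated (pullback.snd q g) := MorphismProperty.pullback_snd (P := @IsSeparated) _ _ inferInstance
  haveI : IsProper (pullback.lift W.ι p hp ≫ pullback.snd q g) := by rw [pullback.lift_snd]; infer_instance
  haveI : IsProper (pullback.lift W.ι p hp) := IsProper.of_comp _ (pullback.snd q g)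
  exact (pullback.lift W.ι p hp).isClosedMap.isClosed_range

/-- An open of the target carrying a proper map gives one on the scheme-theoretic image. -/
theorem exists_proper_quasiDomination (q : X₀ ⟶ S) [IsSeparated q] (t : U ⟶ X₀) {X' X : Scheme.{u}} (o : X' ⟶ X₀)
    [IsOpenImmersion o] (b : X' ⟶ X) [IsProper b] (g : X ⟶ S) (ho : o ≫ q = b ≫ g) (u₀ : U ⟶ X') (j₀ : U ⟶ X)
    (hu : u₀ ≫ b = j₀) (ht : u₀ ≫ o = t) :
    ∃ (W : t.image.Opens) (l : U ⟶ (W : Scheme.{u})) (p : (W : Scheme.{u}) ⟶ X)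
      (hp : W.ι ≫ (t.imageι ≫ q) = p ≫ g),
        l ≫ W.ι = t.toImage ∧ l ≫ p = j₀ ∧ IsProper p ∧
        IsClosed (Set.range (fun x => pullback.lift W.ι p hp x)) := by
  let R := o.opensRange
  let W : t.image.Opens := t.imageι ⁻¹ᵁ R
  let p : (W : Scheme.{u}) ⟶ X := (t.imageι ∣_ R) ≫ o.isoOpensRange.inv ≫ b
  haveI : IsClosedImmersion (t.imageι ∣_ R) :=
    IsZariskiLocalAtTarget.restrict (P := @IsClosedImmersion) (show IsClosedImmersion t.imageι from inferInstance) R
  haveI : IsProper p := MorphismProperty.comp_mem (W := @IsProper) _ _ inferInstance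
    (MorphismProperty.comp_mem (W := @IsProper) _ _ inferInstance inferInstance)
  have hp : W.ι ≫ (t.imageι ≫ q) = p ≫ g := by
    simp only [p, Category.assoc]
    rw [← ho, Scheme.Hom.isoOpensRange_inv_comp_assoc, morphismRestrict_ι_assoc]
  have hr : Set.range t.toImage ⊆ Set.range W.ι := by
    rintro _ ⟨x, rfl⟩
    rw [Scheme.Opens.range_ι]
    show t.imageι (t.toImage x) ∈ R
    rw [← Scheme.Hom.comp_apply, Scheme.Hom.toImage_imageι, ← ht]
    exact ⟨u₀ x, rfl⟩
  refine ⟨W, IsOpenImmersion.lift W.ι t.toImage hr, p, hp, IsOpenImmersion.lift_fac _ _ _, ?_, inferInstance,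
    isClosed_range_lift_of_isProper _ g W p hp⟩
  have h : IsOpenImmersion.lift W.ι t.toImage hr ≫ (t.imageι ∣_ R) ≫ o.isoOpensRange.inv = u₀ := by
    rw [← cancel_mono o, Category.assoc, Category.assoc, Scheme.Hom.isoOpensRange_inv_comp, morphismRestrict_ι,
      IsOpenImmersion.lift_fac_assoc, Scheme.Hom.toImage_imageι, ht]
  simp only [p]
  rw [← hu, ← h]
  simp only [Category.assoc]

/-- A common separated target with proper quasi-dominations. -/
theorem exists_separated_target [CompactSpace S] [QuasiSeparatedSpace S] {X₁ X₂ : Scheme.{u}}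
    (g₁ : X₁ ⟶ S) (g₂ : X₂ ⟶ S)
    [IsSeparated g₁] [QuasiCompact g₁] [LocallyOfFiniteType g₁]
    [IsSeparated g₂] [QuasiCompact g₂] [LocallyOfFiniteType g₂]
    (j₁ : U ⟶ X₁) (j₂ : U ⟶ X₂) [IsOpenImmersion j₁] [IsOpenImmersion j₂] [CompactSpace U]
    (h : j₁ ≫ g₁ = j₂ ≫ g₂) :
    ∃ (X : Scheme.{u}) (q : X ⟶ S) (_ : IsSeparated q) (_ : QuasiCompact q) (_ : LocallyOfFiniteType q)
      (j : U ⟶ X) (_ : IsOpenImmersion j) (_ : IsSchemeTheoreticallyDominant j) (_ : j ≫ q = j₁ ≫ g₁),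
      (∃ (W : X.Opens) (l : U ⟶ (W : Scheme.{u})) (p : (W : Scheme.{u}) ⟶ X₁) (hp : W.ι ≫ q = p ≫ g₁),
        l ≫ W.ι = j ∧ l ≫ p = j₁ ∧ IsProper p ∧
        IsClosed (Set.range (fun x => pullback.lift W.ι p hp x))) ∧
      (∃ (W : X.Opens) (l : U ⟶ (W : Scheme.{u})) (p : (W : Scheme.{u}) ⟶ X₂) (hp : W.ι ≫ q = p ≫ g₂),
        l ≫ W.ι = j ∧ l ≫ p = j₂ ∧ IsProper p ∧
        IsClosed (Set.range (fun x => pullback.lift W.ι p hp x))) := by
  let gU : U ⟶ S := j₁ ≫ g₁
  haveI : QuasiCompact gU := inferInstance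
  obtain ⟨X₀, q, hqs, hql, hqc, 𝓘₁, 𝓘₂, X₁', X₂', b₁, b₂, o₁, o₂, u₁, u₂, hb₁, ha₁, hb₂, ha₂, ho₁, ho₂,
    hq₁, hq₂, hu₁, hu₂, huu⟩ := RGBlowLib.exists_common_target gU g₁ g₂ j₁ j₂ rfl h.symm
  haveI := hqs
  haveI := hql
  haveI := hqc
  haveI := ho₁
  haveI := ho₂
  haveI : IsProper b₁ := RGBlowLib.isProper_blowUp hb₁ ha₁
  haveI : IsProper b₂ := RGBlowLib.isProper_blowUp hb₂ ha₂
  let t := u₁ ≫ o₁
  have htq : t ≫ q = gU := by
    simp only [t, gU, Category.assoc, hq₁]
    rw [reassoc_of% hu₁]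
  haveI : QuasiCompact (t ≫ q) := by rw [htq]; infer_instance
  haveI : QuasiCompact t := QuasiCompact.of_comp t q
  haveI : IsImmersion (u₁ ≫ b₁) := by rw [hu₁]; infer_instance
  haveI : IsImmersion u₁ := IsImmersion.of_comp u₁ b₁
  haveI : IsImmersion (t.toImage ≫ t.imageι) := by rw [Scheme.Hom.toImage_imageι]; infer_instance
  haveI : IsImmersion t.toImage := IsImmersion.of_comp _ t.imageι
  haveI : IsSchemeTheoreticallyDominant t.toImage := SchDenseLib.toImage_dominant t
  haveI : IsOpenImmersion t.toImage := SchDenseLib.isOpenImmersion_of_dominant _ (Or.inl inferInstance)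
  haveI : CompactSpace X₀ := QuasiCompact.compactSpace_of_compactSpace q
  exact ⟨t.image, t.imageι ≫ q, inferInstance, inferInstance, inferInstance, t.toImage, inferInstance, inferInstance,
    by rw [Scheme.Hom.toImage_imageι_assoc, htq],
    exists_proper_quasiDomination q t o₁ b₁ g₁ hq₁ u₁ j₁ hu₁ rfl,
    exists_proper_quasiDomination q t o₂ b₂ g₂ hq₂ u₂ j₂ hu₂ huu.symm⟩

end Groth.Agent.RGModLib
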