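import Groth.Agent.RGModLib.OpenStrict
import Groth.Agent.RGModLib.Target

/-!
# Extending quasi-dominations after an admissible blow-up
-/

set_option autoImplicit false
set_option linter.style.haveILetI false
set_option backward.isDefEq.respectTransparency false
set_option maxHeartbeats 1000000

universe u

open CategoryTheory CategoryTheory.Limits AlgebraicGeometry

noncomputable section

namespace Groth.Agent.RGModLib

variable {S X Y : Scheme.{u}}

/-- A quasi-domination of an open over a separated scheme of finite type extends after an admissible blow-up. -/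
theorem exists_quasiDomination_extending [QuasiSeparatedSpace S]
    [CompactSpace X] [QuasiSeparatedSpace X] [CompactSpace Y]
    (pX : X ⟶ S) (pY : Y ⟶ S) [IsSeparated pY] [LocallyOfFiniteType pY]
    (U V : X.Opens) (hUV : U ≤ V) (hU : IsCompact (U : Set X)) (hV : IsCompact (V : Set X))
    (hUd : Dense (U : Set X))
    (f : (U : Scheme.{u}) ⟶ Y) (hf : U.ι ≫ pX = f ≫ pY)
    (hcl : closure (Set.range (fun x => pullback.lift U.ι f hf x)) ∩
        ((pullback.fst pX pY) ⁻¹ᵁ V : Set ↥(pullback pX pY)) ⊆ Set.range (fun x => pullback.lift U.ι f hf x)) :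
    ∃ (𝓘 : X.IdealSheafData) (Xt : Scheme.{u}) (q : Xt ⟶ X),
      BlowUp.IsBlowUp q 𝓘 ∧ BlowUp.IsAdmissibleFor V 𝓘 ∧
      ∃ (W : Xt.Opens) (hle : q ⁻¹ᵁ U ≤ W) (ft : (W : Scheme.{u}) ⟶ Y) (hft : W.ι ≫ q ≫ pX = ft ≫ pY),
        Dense (W : Set Xt) ∧ Xt.homOfLE hle ≫ ft = (q ∣_ U) ≫ f ∧
        IsClosed (Set.range (fun x => pullback.lift W.ι ft hft x)) := by
  haveI : CompactSpace U := isCompact_iff_compactSpace.1 hU
  haveI : QuasiCompact pY := inferInstance
  haveI : QuasiCompact U.ι := inferInstance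
  let p₁ := pullback.fst pX pY
  let p₂ := pullback.snd pX pY
  haveI : IsSeparated p₁ := MorphismProperty.pullback_fst (P := @IsSeparated) _ _ inferInstance
  haveI : LocallyOfFiniteType p₁ := MorphismProperty.pullback_fst (P := @LocallyOfFiniteType) _ _ inferInstance
  haveI : QuasiCompact p₁ := MorphismProperty.pullback_fst (P := @QuasiCompact) _ _ inferInstance
  let t : (U : Scheme.{u}) ⟶ pullback pX pY := pullback.lift U.ι f hf
  have ht : t ≫ p₁ = U.ι := pullback.lift_fst _ _ _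
  haveI : QuasiCompact (t ≫ p₁) := by rw [ht]; infer_instance
  haveI : QuasiCompact t := QuasiCompact.of_comp t p₁
  let z := t.imageι ≫ p₁
  haveI hisoU : IsIso (z ∣_ U) := RGBlowLib.isIso_image_restrict p₁ U t ht
  have hVU : z ⁻¹ᵁ V = z ⁻¹ᵁ U := by
    ext γ
    refine ⟨fun hγ => ?_, fun hγ => hUV hγ⟩
    have h1 : t.imageι γ ∈ closure (Set.range (fun x => t x)) := by
      have : t.imageι γ ∈ Set.range t.imageι := ⟨γ, rfl⟩
      rwa [Scheme.Hom.imageι, Scheme.IdealSheafData.range_subschemeι, Scheme.Hom.support_ker] at this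
    obtain ⟨x, hx⟩ := hcl ⟨h1, hγ⟩
    show p₁ (t.imageι γ) ∈ U
    rw [← hx]
    show p₁ (t x) ∈ U
    rw [← Scheme.Hom.comp_apply, ht]
    exact x.2
  haveI : IsOpenImmersion (z ∣_ V) := by
    have hle : z ⁻¹ᵁ V ≤ z ⁻¹ᵁ U := le_of_eq hVU
    have e : (z ∣_ V) ≫ V.ι = t.image.homOfLE hle ≫ (z ∣_ U) ≫ U.ι := by
      rw [morphismRestrict_ι, morphismRestrict_ι, Scheme.homOfLE_ι_assoc]
    haveI : IsOpenImmersion ((z ∣_ V) ≫ V.ι) := by rw [e]; infer_instance
    exact IsOpenImmersion.of_comp _ V.ι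
  haveI : CompactSpace t.image := QuasiCompact.compactSpace_of_compactSpace z
  obtain ⟨𝓘, Xt, q, hq, hadm, hex, W, m, hle, hm, hmz⟩ := exists_open_strict_of_openImmersion z V hV U hUV
  haveI := hm
  haveI : IsProper q := RGBlowLib.isProper_blowUp hq hadm
  let ft : (W : Scheme.{u}) ⟶ Y := m ≫ t.imageι ≫ p₂
  have hmz' : m ≫ t.imageι ≫ p₁ = W.ι ≫ q := hmz
  have hft : W.ι ≫ q ≫ pX = ft ≫ pY := by
    simp only [ft, Category.assoc, p₂]
    rw [← pullback.condition, ← reassoc_of% hmz']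
  refine ⟨𝓘, Xt, q, hq, hadm, W, hle, ft, hft, ?_, ?_, ?_⟩
  · -- density
    have hD : ((𝓘.comap q).support.compl : Xt.Opens) = q ⁻¹ᵁ V := by
      ext s
      show s ∉ (𝓘.comap q).support ↔ q s ∈ V
      rw [Scheme.IdealSheafData.support_comap]
      exact ⟨fun h => by_contra fun h' => h (hex _ h'), fun h h' => Set.disjoint_left.1 hadm.2 h' h⟩
    obtain ⟨haff, hdom⟩ := S1571.result Xt _ hq.1
    rw [hD] at haff hdom
    haveI := haff
    haveI := hdom
    haveI : IsOpenImmersion (q ∣_ V) := by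
      haveI := BlowCompLib.isIso_restrict 𝓘 q hq
      have hle' : q ⁻¹ᵁ V ≤ q ⁻¹ᵁ 𝓘.support.compl := fun x hx h => Set.disjoint_left.1 hadm.2 h hx
      haveI : IsOpenImmersion ((q ∣_ V) ≫ V.ι) := by
        rw [show (q ∣_ V) ≫ V.ι = Xt.homOfLE hle' ≫ (q ∣_ 𝓘.support.compl) ≫ Scheme.Opens.ι (X := X) 𝓘.support.compl by
          rw [morphismRestrict_ι, morphismRestrict_ι, Scheme.homOfLE_ι_assoc]]
        infer_instance
      exact IsOpenImmersion.of_comp _ V.ι
    rw [dense_iff_inter_open]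
    intro O hO hne
    have hdV : Dense ((q ⁻¹ᵁ V : Xt.Opens) : Set Xt) := by
      have h := (q ⁻¹ᵁ V).ι.denseRange
      rwa [DenseRange, Scheme.Opens.range_ι] at h
    obtain ⟨y, hyO, hyV⟩ := hdV.inter_open_nonempty O hO hne
    let e := (q ∣_ V)
    have hop : IsOpen (V.ι '' (e '' ((q ⁻¹ᵁ V).ι ⁻¹' O))) :=
      V.ι.isOpenEmbedding.isOpenMap _ (e.isOpenEmbedding.isOpenMap _ (hO.preimage (q ⁻¹ᵁ V).ι.continuous))
    obtain ⟨_, ⟨v, ⟨w, hw, rfl⟩, rfl⟩, hxU⟩ :=
      hUd.inter_open_nonempty _ hop ⟨_, _, ⟨⟨y, hyV⟩, hyO, rfl⟩, rfl⟩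
    refine ⟨(q ⁻¹ᵁ V).ι w, hw, hle ?_⟩
    show q ((q ⁻¹ᵁ V).ι w) ∈ U
    rwa [← Scheme.Hom.comp_apply, ← morphismRestrict_ι, Scheme.Hom.comp_apply]
  · have h0 : Xt.homOfLE hle ≫ m = (q ∣_ U) ≫ t.toImage := by
      refine RGBlowLib.eq_of_iso_over z U _ _ ?_ fun y => ?_
      · simp only [z, Category.assoc, Scheme.Hom.toImage_imageι_assoc, ht]
        rw [hmz', ← Category.assoc, Scheme.homOfLE_ι, morphismRestrict_ι]
      · simp only [z, Category.assoc, Scheme.Hom.toImage_imageι_assoc, ht]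
        exact ((q ∣_ U) y).2
    simp only [ft]
    rw [reassoc_of% h0, Scheme.Hom.toImage_imageι_assoc]
    simp only [t, p₂, pullback.lift_snd]
  · let L := pullback.lift W.ι ft hft
    let M : pullback (q ≫ pX) pY ⟶ pullback pX pY :=
      pullback.map _ _ _ _ q (𝟙 Y) (𝟙 S) (by simp) (by simp)
    haveI : IsSeparated M := MorphismProperty.pullbackMap (P := @IsSeparated) (f' := pX) (g' := pY)
      (inferInstanceAs (IsSeparated q)) (inferInstanceAs (IsSeparated (𝟙 Y))) rfl (by simp)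
    have hLM : L ≫ M = m ≫ t.imageι := by
      apply pullback.hom_ext
      · simp [L, M, p₁, ← hmz']
      · simp [L, M, ft, p₂]
    haveI : IsProper (L ≫ M) := by rw [hLM]; infer_instance
    haveI : IsProper L := IsProper.of_comp L M
    exact L.isClosedMap.isClosed_range

end Groth.Agent.RGModLib
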