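import Groth.Agent.RGBlowLib.Target
import Groth.Agent.RGModLib.Common

/-!
# Blow-ups making two birational maps open immersions
-/

set_option autoImplicit false
set_option linter.style.haveILetI false
set_option backward.isDefEq.respectTransparency false
set_option maxHeartbeats 1000000

universe u

open CategoryTheory CategoryTheory.Limits AlgebraicGeometry TopologicalSpace

noncomputable section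

namespace Groth.Agent.RGModLib

variable {X Y : Scheme.{u}}

theorem exists_iso_of_blowUps {X₁ X₂ : Scheme.{u}} {A : X.IdealSheafData} {b₁ : X₁ ⟶ X} {b₂ : X₂ ⟶ X}
    (h₁ : BlowUp.IsBlowUp b₁ A) (h₂ : BlowUp.IsBlowUp b₂ A) : ∃ e : X₁ ≅ X₂, e.hom ≫ b₂ = b₁ := by
  obtain ⟨k, hk, -⟩ := h₂.2 _ b₁ h₁.1
  obtain ⟨l, hl, -⟩ := h₁.2 _ b₂ h₂.1
  refine ⟨⟨k, l, ?_, ?_⟩, hk⟩
  · obtain ⟨_, -, hu⟩ := h₁.2 _ b₁ h₁.1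
    rw [hu (k ≫ l) (show (k ≫ l) ≫ b₁ = b₁ by rw [Category.assoc, hl, hk]), ← hu (𝟙 _) (Category.id_comp _)]
  · obtain ⟨_, -, hu⟩ := h₂.2 _ b₂ h₂.1
    rw [hu (l ≫ k) (show (l ≫ k) ≫ b₂ = b₂ by rw [Category.assoc, hk, hl]), ← hu (𝟙 _) (Category.id_comp _)]

/-- The image of an open of the preimage is an open of the base with that preimage. -/
theorem exists_image_open (π : X ⟶ Y) (U : Y.Opens) [IsIso (π ∣_ U)] (W : X.Opens) (hW : W ≤ π ⁻¹ᵁ U)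
    (hWc : IsCompact (W : Set X)) :
    ∃ R : Y.Opens, R ≤ U ∧ IsCompact (R : Set Y) ∧ π ⁻¹ᵁ R = W ∧ (R : Set Y) = π '' (W : Set X) := by
  let R : Y.Opens := U.ι ''ᵁ ((π ∣_ U) ''ᵁ ((π ⁻¹ᵁ U).ι ⁻¹ᵁ W))
  have hset : (R : Set Y) = π '' (W : Set X) := by
    ext y
    constructor
    · rintro ⟨_, ⟨x, hx, rfl⟩, rfl⟩
      refine ⟨(π ⁻¹ᵁ U).ι x, hx, ?_⟩
      exact (morphismRestrict_base_coe π U x).symm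
    · rintro ⟨x, hx, rfl⟩
      exact ⟨_, ⟨⟨x, hW hx⟩, hx, rfl⟩, morphismRestrict_base_coe π U ⟨x, hW hx⟩⟩
  refine ⟨R, fun y hy => ?_, hset ▸ hWc.image π.continuous, ?_, hset⟩
  · obtain ⟨z, -, rfl⟩ := hy
    exact z.2
  · ext x
    constructor
    · intro hx
      obtain ⟨x', hx', he⟩ := hset.le (show π x ∈ (R : Set Y) from hx)
      have hxU : π x ∈ U := he ▸ hW hx'
      have h2 : (⟨x', hW hx'⟩ : (π ⁻¹ᵁ U : X.Opens)) = ⟨x, hxU⟩ :=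
        (π ∣_ U).isOpenEmbedding.injective (Subtype.ext (by
          rw [morphismRestrict_base_coe, morphismRestrict_base_coe]; exact he))
      exact (show x' = x from congrArg Subtype.val h2).subst (motive := fun z => z ∈ (W : Set X)) hx'
    · intro hx
      exact hset.ge ⟨x, hx, rfl⟩

/-- One side: extend the centre pulled back to the strict transform and compose. -/
theorem exists_one_side [CompactSpace X] [CompactSpace Y] [QuasiSeparatedSpace Y] (π : X ⟶ Y) (R : Y.Opens)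
    (hR : IsCompact (R : Set Y)) {U : Y.Opens} (hRU : R ≤ U) {𝓘 : Y.IdealSheafData} {S : Scheme.{u}} {c : S ⟶ Y}
    (hc : BlowUp.IsBlowUp c 𝓘) (hadm : BlowUp.IsAdmissibleFor U 𝓘) (V : S.Opens) (m : (V : Scheme.{u}) ⟶ X) [IsProper m]
    (hm : m ≫ π = V.ι ≫ c) (B : X.IdealSheafData) (hB : BlowUp.IsAdmissibleFor (π ⁻¹ᵁ R) B) {Q : Scheme.{u}}
    {q : Q ⟶ (V : Scheme.{u})} (hq : BlowUp.IsBlowUp q (B.comap m)) :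
    ∃ (𝓚 : Y.IdealSheafData) (Yt : Scheme.{u}) (d : Yt ⟶ Y) (j : Q ⟶ Yt),
      BlowUp.IsBlowUp d 𝓚 ∧ BlowUp.IsFiniteTypeIdeal 𝓚 ∧ Disjoint (𝓚.support : Set Y) (R : Set Y) ∧
      IsOpenImmersion j ∧ j ≫ d = q ≫ m ≫ π := by
  haveI : CompactSpace (V : Scheme.{u}) := QuasiCompact.compactSpace_of_compactSpace m
  have hV : IsCompact (V : Set S) := isCompact_iff_compactSpace.2 ‹_›
  have hK : BlowUp.IsAdmissibleFor (V.ι ⁻¹ᵁ (c ⁻¹ᵁ R)) (B.comap m) := by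
    refine ⟨fun W => ModPairLib.fg_comap B m hB.1 W, Set.disjoint_left.2 fun v hv hvR => ?_⟩
    rw [Scheme.IdealSheafData.support_comap] at hv
    refine Set.disjoint_left.1 hB.2 (show m v ∈ B.support from hv) ?_
    show π (m v) ∈ R
    rw [← Scheme.Hom.comp_apply, hm, Scheme.Hom.comp_apply]
    exact hvR
  obtain ⟨𝓚, Yt, d, hd, hadmK, hres⟩ := RGBlowLib.exists_side R hR hc
    ⟨hadm.1, hadm.2.mono_right hRU⟩ V hV (B.comap m) hK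
  obtain ⟨e, he⟩ := exists_iso_of_blowUps hq hres
  refine ⟨𝓚, Yt, d ≫ c, e.hom ≫ (d ⁻¹ᵁ V).ι, hd, hadmK.1, hadmK.2, inferInstance, ?_⟩
  rw [hm, Category.assoc, ← Category.assoc ((d ⁻¹ᵁ V).ι), ← morphismRestrict_ι, Category.assoc, ← Category.assoc e.hom, he]

theorem exists_two_birational {Y₁ Y₂ : Scheme.{u}} [CompactSpace X] [QuasiSeparatedSpace X]
    [CompactSpace Y₁] [QuasiSeparatedSpace Y₁] [CompactSpace Y₂] [QuasiSeparatedSpace Y₂]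
    (π₁ : X ⟶ Y₁) (π₂ : X ⟶ Y₂)
    [IsSeparated π₁] [QuasiCompact π₁] [LocallyOfFiniteType π₁]
    [IsSeparated π₂] [QuasiCompact π₂] [LocallyOfFiniteType π₂]
    (U₁ : Y₁.Opens) (U₂ : Y₂.Opens) (hU₁ : IsCompact (U₁ : Set Y₁)) (hU₂ : IsCompact (U₂ : Set Y₂))
    [IsIso (π₁ ∣_ U₁)] [IsIso (π₂ ∣_ U₂)] :
    ∃ (𝓘 : X.IdealSheafData) (𝓙₁ : Y₁.IdealSheafData) (𝓙₂ : Y₂.IdealSheafData)
      (Xt Yt₁ Yt₂ : Scheme.{u}) (b : Xt ⟶ X) (c₁ : Yt₁ ⟶ Y₁) (c₂ : Yt₂ ⟶ Y₂) (j₁ : Xt ⟶ Yt₁) (j₂ : Xt ⟶ Yt₂),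
      BlowUp.IsBlowUp b 𝓘 ∧ BlowUp.IsAdmissibleFor (π₁ ⁻¹ᵁ U₁ ⊓ π₂ ⁻¹ᵁ U₂) 𝓘 ∧
      BlowUp.IsBlowUp c₁ 𝓙₁ ∧ BlowUp.IsFiniteTypeIdeal 𝓙₁ ∧
        Disjoint (𝓙₁.support : Set Y₁) ((fun x => π₁ x) '' ((π₁ ⁻¹ᵁ U₁ ⊓ π₂ ⁻¹ᵁ U₂ : X.Opens) : Set X)) ∧
      BlowUp.IsBlowUp c₂ 𝓙₂ ∧ BlowUp.IsFiniteTypeIdeal 𝓙₂ ∧
        Disjoint (𝓙₂.support : Set Y₂) ((fun x => π₂ x) '' ((π₁ ⁻¹ᵁ U₁ ⊓ π₂ ⁻¹ᵁ U₂ : X.Opens) : Set X)) ∧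
      IsOpenImmersion j₁ ∧ IsOpenImmersion j₂ ∧ j₁ ≫ c₁ = b ≫ π₁ ∧ j₂ ≫ c₂ = b ≫ π₂ := by
  let W : X.Opens := π₁ ⁻¹ᵁ U₁ ⊓ π₂ ⁻¹ᵁ U₂
  have hWc : IsCompact (W : Set X) := QuasiSeparatedSpace.inter_isCompact _ _ (π₁ ⁻¹ᵁ U₁).2
    (QuasiCompact.isCompact_preimage _ U₁.2 hU₁) (π₂ ⁻¹ᵁ U₂).2 (QuasiCompact.isCompact_preimage _ U₂.2 hU₂)
  obtain ⟨R₁, hRU₁, hR₁, hpre₁, himg₁⟩ := exists_image_open π₁ U₁ W inf_le_left hWc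
  obtain ⟨R₂, hRU₂, hR₂, hpre₂, himg₂⟩ := exists_image_open π₂ U₂ W inf_le_right hWc
  obtain ⟨𝓘₁, S₁, e₁, he₁, hadm₁, V₁, m₁, -, hmp₁, hm₁, hb₁⟩ := RGBlowLib.exists_open_strict_blowUp π₁ U₁ hU₁
  obtain ⟨𝓘₂, S₂, e₂, he₂, hadm₂, V₂, m₂, -, hmp₂, hm₂, hb₂⟩ := RGBlowLib.exists_open_strict_blowUp π₂ U₂ hU₂
  haveI := hmp₁
  haveI := hmp₂
  let A₁ := 𝓘₁.comap π₁
  let A₂ := 𝓘₂.comap π₂
  have hA₁ : BlowUp.IsAdmissibleFor W A₁ :=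
    ⟨(isAdmissibleFor_comap π₁ hadm₁).1, (isAdmissibleFor_comap π₁ hadm₁).2.mono_right inf_le_left⟩
  have hA₂ : BlowUp.IsAdmissibleFor W A₂ :=
    ⟨(isAdmissibleFor_comap π₂ hadm₂).1, (isAdmissibleFor_comap π₂ hadm₂).2.mono_right inf_le_right⟩
  obtain ⟨Q₁, q₁, hq₁⟩ := S8859.result _ (A₂.comap m₁)
  obtain ⟨Q₂, q₂, hq₂⟩ := S8859.result _ (A₁.comap m₂)
  have hb := S1683.result A₁ A₂ m₁ hb₁ q₁ hq₁
  have hb' := S1683.result A₂ A₁ m₂ hb₂ q₂ hq₂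
  rw [mul_comm A₂ A₁] at hb'
  obtain ⟨e, he⟩ := exists_iso_of_blowUps hb hb'
  obtain ⟨𝓙₁, Yt₁, c₁, j₁, hc₁, hft₁, hdis₁, hj₁, hjc₁⟩ :=
    exists_one_side π₁ R₁ hR₁ hRU₁ he₁ hadm₁ V₁ m₁ hm₁ A₂ (hpre₁.symm ▸ hA₂) hq₁
  obtain ⟨𝓙₂, Yt₂, c₂, j₂, hc₂, hft₂, hdis₂, hj₂, hjc₂⟩ :=
    exists_one_side π₂ R₂ hR₂ hRU₂ he₂ hadm₂ V₂ m₂ hm₂ A₁ (hpre₂.symm ▸ hA₁) hq₂
  haveI := hj₂
  refine ⟨_, 𝓙₁, 𝓙₂, Q₁, Yt₁, Yt₂, q₁ ≫ m₁, c₁, c₂, j₁, e.hom ≫ j₂, hb, ⟨fun O => ?_, ?_⟩, hc₁, hft₁,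
    himg₁ ▸ hdis₁, hc₂, hft₂, himg₂ ▸ hdis₂, hj₁, inferInstance, ?_, ?_⟩
  · rw [Scheme.IdealSheafData.ideal_mul, Pi.mul_apply]
    exact (hA₁.1 O).mul (hA₂.1 O)
  · rw [Scheme.IdealSheafData.support_mul]
    exact Set.disjoint_union_left.2 ⟨hA₁.2, hA₂.2⟩
  · rw [hjc₁, Category.assoc]
  · rw [Category.assoc, hjc₂, ← Category.assoc q₂, ← Category.assoc e.hom, he]

end Groth.Agent.RGModLib
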